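import Cfsg.Agent.PGroups.Basic
import Mathlib.GroupTheory.Sylow
import Mathlib.GroupTheory.Perm.Cycle.Type
import Mathlib.LinearAlgebra.Matrix.SpecialLinearGroup
import Mathlib.Data.ZMod.Basic

/-!
General facts for the local subgroup of type three plus twelve: lifting normalising elements, fixed points of an
element of prime order, and finite facts on the symmetric group of degree five and the linear group of degree three.
-/

set_option autoImplicit false
set_option maxRecDepth 100000
set_option maxHeartbeats 2000000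
set_option linter.style.haveILetI false
set_option linter.unusedSectionVars false

namespace Cfsg.Lib.JankoFour.ThreeTwelve

open Subgroup

universe u v

/-- An element normalising the image of a subgroup of prime order lifts to one normalising the subgroup, when the
kernel has order prime to it. -/
theorem lift_normalizing {X : Type u} {Y : Type v} [Group X] [Finite X] [Group Y] (f : X →* Y) {p : ℕ}
    (hp : p.Prime) {q : X} (hq : orderOf q = p) (hfq : orderOf (f q) = p) (hker : ¬ p ∣ Nat.card f.ker) {g : X}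
    (hg : f g * f q * (f g)⁻¹ ∈ zpowers (f q)) :
    ∃ n : X, f n = f g ∧ n * q * n⁻¹ ∈ zpowers q := by
  classical
  haveI : Fact p.Prime := ⟨hp⟩
  set W := (zpowers (f q)).comap f with hW
  have hWc : Nat.card ↥W = Nat.card f.ker * p := by
    let r : ↥W →* ↥(zpowers (f q)) := f.subgroupComap (zpowers (f q))
    have hr : Function.Surjective r := by
      rintro ⟨y, hy⟩
      obtain ⟨k, rfl⟩ := mem_zpowers_iff.mp hy
      exact ⟨⟨q ^ k, by show f (q ^ k) ∈ zpowers (f q); rw [map_zpow]; exact zpow_mem (mem_zpowers _) k⟩,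
        Subtype.ext (map_zpow f q k)⟩
    have h := r.ker.card_mul_index
    rw [index_ker, MonoidHom.range_eq_top.mpr hr, card_top, Nat.card_zpowers, hfq] at h
    rw [← h]
    congr 1
    have hle : f.ker ≤ W := fun x hx => by
      show f x ∈ zpowers (f q)
      rw [MonoidHom.mem_ker.mp hx]; exact one_mem _
    have e : r.ker = f.ker.subgroupOf W := by
      ext x
      rw [MonoidHom.mem_ker, mem_subgroupOf, MonoidHom.mem_ker]
      exact ⟨fun h => congrArg Subtype.val h, fun h => Subtype.ext h⟩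
    rw [e, Nat.card_congr (subgroupOfEquivOfLe hle).toEquiv]
  have hfac : (Nat.card ↥W).factorization p = 1 := by
    rw [hWc, Nat.factorization_mul Nat.card_pos.ne' hp.ne_zero, Finsupp.add_apply,
      Nat.factorization_eq_zero_of_not_dvd hker, hp.factorization_self]
  have hqW : q ∈ W := mem_zpowers (f q)
  set q' := g * q * g⁻¹ with hq'
  have hq'W : q' ∈ W := by
    show f (g * q * g⁻¹) ∈ zpowers (f q)
    rwa [map_mul, map_mul, map_inv]
  have ho : ∀ (x : X) (hx : x ∈ W), orderOf x = p → Nat.card ↥(zpowers (⟨x, hx⟩ : ↥W)) = p := fun x hx h => by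
    rw [Nat.card_zpowers, ← Subgroup.orderOf_coe]; exact h
  have hq'o : orderOf q' = p := by
    rw [hq', show g * q * g⁻¹ = MulAut.conj g q from rfl, MulEquiv.orderOf_eq, hq]
  let S : Sylow p ↥W := Sylow.ofCard (zpowers ⟨q, hqW⟩) (by rw [ho _ _ hq, hfac, pow_one])
  let S' : Sylow p ↥W := Sylow.ofCard (zpowers ⟨q', hq'W⟩) (by rw [ho _ _ hq'o, hfac, pow_one])
  obtain ⟨w, hw⟩ := MulAction.exists_smul_eq ↥W S' S
  obtain ⟨k, hk⟩ : ∃ k : ℤ, (w : X) * q' * (w : X)⁻¹ = q ^ k := by
    have h1 : w * ⟨q', hq'W⟩ * w⁻¹ ∈ ((w • S' : Sylow p ↥W) : Subgroup ↥W) := by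
      rw [Sylow.coe_subgroup_smul]
      exact ⟨⟨q', hq'W⟩, mem_zpowers _, rfl⟩
    rw [hw] at h1
    obtain ⟨k, hk⟩ := mem_zpowers_iff.mp h1
    exact ⟨k, (congrArg Subtype.val hk).symm⟩
  obtain ⟨i, hi⟩ := mem_zpowers_iff.mp (show f (w : X) ∈ zpowers (f q) from w.2)
  refine ⟨q ^ (-i) * (w * g), ?_, ⟨k, ?_⟩⟩
  · rw [map_mul, map_mul, map_zpow, ← hi, ← mul_assoc, ← zpow_add, neg_add_cancel, zpow_zero, one_mul]
  · show q ^ k = _
    rw [show q ^ (-i) * ((w : X) * g) * q * (q ^ (-i) * ((w : X) * g))⁻¹ = q ^ (-i) * ((w : X) * (g * q * g⁻¹) * (w : X)⁻¹) * (q ^ (-i))⁻¹ by group,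
      ← hq', hk]
    group

/-- An element of prime order fixes a subgroup it normalises up to a multiple of the prime. -/
theorem card_modEq_fixed {G : Type u} [Group G] [Finite G] {p : ℕ} (hp : p.Prime) {y : G} (hy : orderOf y = p)
    {X : Subgroup G} (hX : ∀ x ∈ X, y * x * y⁻¹ ∈ X) :
    Nat.card ↥X ≡ Nat.card ↥(X ⊓ centralizer ({y} : Set G)) [MOD p] := by
  haveI : Fact p.Prime := ⟨hp⟩
  have hn : y ∈ normalizer (X : Set G) := Subgroup.mem_normalizer_fintype hX
  letI : MulAction ↥(zpowers y) ↥X :=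
    { smul := fun a x => ⟨(a : G) * x * (a : G)⁻¹, (mem_normalizer_iff.mp (zpowers_le.mpr hn a.2) _).mp x.2⟩
      one_smul := fun x => Subtype.ext (by show ((1 : ↥(zpowers y)) : G) * x * _⁻¹ = x; simp)
      mul_smul := fun a b x => Subtype.ext (by
        show ((a * b : ↥(zpowers y)) : G) * x * ((a * b : ↥(zpowers y)) : G)⁻¹ = a * (b * x * (b : G)⁻¹) * (a : G)⁻¹
        simp only [Subgroup.coe_mul]; group) }
  have hP : IsPGroup p ↥(zpowers y) := IsPGroup.of_card (n := 1) (by rw [Nat.card_zpowers, hy, pow_one])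
  have h := hP.card_modEq_card_fixedPoints ↥X
  suffices e : Nat.card ↥(MulAction.fixedPoints ↥(zpowers y) ↥X) = Nat.card ↥(X ⊓ centralizer ({y} : Set G)) by
    rwa [e] at h
  exact Nat.card_congr
    { toFun := fun x => ⟨x.1.1, mem_inf.mpr ⟨x.1.2, mem_centralizer_singleton_iff.mpr (by
        have h : y * (x.1 : G) * y⁻¹ = x.1 := congrArg Subtype.val (x.2 ⟨y, mem_zpowers y⟩)
        exact (mul_inv_eq_iff_eq_mul.mp h).symm)⟩⟩
      invFun := fun x => ⟨⟨x.1, (mem_inf.mp x.2).1⟩, fun a => Subtype.ext (by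
        show (a : G) * (x : G) * (a : G)⁻¹ = x
        have hc : Commute (x : G) y := mem_centralizer_singleton_iff.mp (mem_inf.mp x.2).2
        obtain ⟨k, hk⟩ := mem_zpowers_iff.mp a.2
        rw [← hk, ← (hc.zpow_right k).eq, mul_inv_cancel_right])⟩
      left_inv := fun x => rfl
      right_inv := fun x => rfl }

/-- The powers different from the identity of an element of order five. -/
def pows5 (σ : Equiv.Perm (Fin 5)) : Finset (Equiv.Perm (Fin 5)) := {σ, σ ^ 2, σ ^ 3, σ ^ 4}

/-- The subgroups of order five. -/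
def fives : Finset (Finset (Equiv.Perm (Fin 5))) :=
  (Finset.univ.filter fun σ => σ ^ 5 = 1 ∧ σ ≠ 1).image pows5

theorem fives_card : fives.card = 6 := by decide +kernel

theorem five_detect : ∀ π : Equiv.Perm (Fin 5), π ≠ 1 → ∃ σ : Equiv.Perm (Fin 5), σ ^ 5 = 1 ∧ π * σ ≠ σ * π := by
  decide +kernel

theorem five_normal : ∀ σ : Equiv.Perm (Fin 5), σ ^ 5 = 1 → σ ≠ 1 →
    (Finset.univ.filter fun π : Equiv.Perm (Fin 5) => π * σ * π⁻¹ ∈ pows5 σ).card = 20 := by decide +kernel

theorem no_normal_two : ∀ σ : Equiv.Perm (Fin 5), σ ^ 8 = 1 → σ ≠ 1 →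
    ∃ τ : Equiv.Perm (Fin 5), (σ * (τ * σ * τ⁻¹)) ^ 8 ≠ 1 := by decide +kernel

/-- The normaliser of a subgroup of order seven in a simple group of order 168. -/
theorem seven_normal {X : Type u} [Group X] [Finite X] [IsSimpleGroup X] (hX : Nat.card X = 168) {s : X}
    (hs : orderOf s = 7) : Nat.card ↥(normalizer (zpowers s : Set X)) = 21 := by
  haveI : Fact (Nat.Prime 7) := ⟨by norm_num⟩
  have hfac : (168 : ℕ).factorization 7 = 1 := by
    rw [show (168 : ℕ) = 7 * 24 from rfl, Nat.factorization_mul (by norm_num) (by norm_num), Finsupp.add_apply,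
      (Fact.out : Nat.Prime 7).factorization_self, Nat.factorization_eq_zero_of_not_dvd (by norm_num)]
  let S : Sylow 7 X := Sylow.ofCard (zpowers s) (by rw [Nat.card_zpowers, hs, hX, hfac, pow_one])
  have hm := card_sylow_modEq_one 7 X
  have hi : Nat.card (Sylow 7 X) = (normalizer (zpowers s : Set X)).index := S.card_eq_index_normalizer
  have hmul := (normalizer (zpowers s : Set X)).card_mul_index
  rw [hX, ← hi] at hmul
  have h7 : 7 ∣ Nat.card ↥(normalizer (zpowers s : Set X)) := by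
    have := Subgroup.card_dvd_of_le (le_normalizer : zpowers s ≤ normalizer (zpowers s : Set X))
    rwa [Nat.card_zpowers, hs] at this
  have hne : Nat.card (Sylow 7 X) ≠ 1 := fun e => by
    have hn : (zpowers s).Normal := normalizer_eq_top_iff.mp (index_eq_one.mp (hi ▸ e))
    rcases IsSimpleGroup.eq_bot_or_eq_top_of_normal (zpowers s) hn with r | r
    · have := Nat.card_zpowers s
      rw [r, card_bot, hs] at this
      omega
    · have := Nat.card_zpowers s
      rw [r, card_top, hX, hs] at this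
      omega
  obtain ⟨c, hc⟩ := h7
  rw [hc, mul_assoc] at hmul
  have hc24 : c * Nat.card (Sylow 7 X) = 24 := by omega
  have hle : Nat.card (Sylow 7 X) ≤ 24 := Nat.le_of_dvd (by norm_num) ⟨c, by rw [mul_comm, hc24]⟩
  unfold Nat.ModEq at hm
  rcases (show Nat.card (Sylow 7 X) = 8 ∨ Nat.card (Sylow 7 X) = 15 ∨ Nat.card (Sylow 7 X) = 22 by omega) with e | e | e <;>
    rw [e] at hc24 <;> omega

/-- An automorphism of the symmetric group of degree five whose seventh power is trivial is trivial. -/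
theorem aut_perm_five (φ : MulAut (Equiv.Perm (Fin 5))) (h : φ ^ 7 = 1) : φ = 1 := by
  classical
  have hmem : ∀ s ∈ fives, s.image φ ∈ fives := by
    intro s hs
    obtain ⟨σ, hσ, rfl⟩ := Finset.mem_image.mp hs
    obtain ⟨-, h5, h1⟩ := Finset.mem_filter.mp hσ
    refine Finset.mem_image.mpr ⟨φ σ, Finset.mem_filter.mpr ⟨Finset.mem_univ _, by rw [← map_pow, h5, map_one],
      fun e => h1 (φ.injective (e.trans (map_one φ).symm))⟩, ?_⟩
    simp [pows5, Finset.image_insert, map_pow]
  let f : {s // s ∈ fives} → {s // s ∈ fives} := fun s => ⟨s.1.image φ, hmem s.1 s.2⟩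
  have hf : Function.Bijective f := Finite.injective_iff_bijective.mp fun a b e =>
    Subtype.ext (Finset.image_injective φ.injective (congrArg Subtype.val e))
  have hiter : ∀ (n : ℕ) (s : {s // s ∈ fives}), ((Equiv.ofBijective f hf ^ n) s).1 = s.1.image ⇑(φ ^ n) := by
    intro n
    induction n with
    | zero => intro s; simp
    | succ n ih =>
      intro s
      rw [pow_succ', Equiv.Perm.mul_apply]
      show ((Equiv.ofBijective f hf ^ n) s).1.image φ = _
      rw [ih, Finset.image_image, pow_succ']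
      rfl
  have h7 : Equiv.ofBijective f hf ^ 7 = 1 := Equiv.ext fun s => Subtype.ext (by rw [hiter, h]; simp)
  have hf1 : Equiv.ofBijective f hf = 1 := by
    refine orderOf_eq_one_iff.mp (Nat.eq_one_of_dvd_coprimes (by decide : Nat.Coprime 7 720)
      (orderOf_dvd_of_pow_eq_one h7) ?_)
    have := orderOf_dvd_natCard (Equiv.ofBijective f hf)
    rwa [Nat.card_perm, Nat.card_eq_fintype_card, Fintype.card_coe, fives_card] at this
  have hfix : ∀ σ : Equiv.Perm (Fin 5), σ ^ 5 = 1 → φ σ = σ := by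
    intro σ h5
    by_cases h1 : σ = 1
    · rw [h1, map_one]
    have hin : pows5 σ ∈ fives :=
      Finset.mem_image.mpr ⟨σ, Finset.mem_filter.mpr ⟨Finset.mem_univ _, h5, h1⟩, rfl⟩
    have e : (pows5 σ).image φ = pows5 σ := congrArg Subtype.val (Equiv.congr_fun hf1 ⟨_, hin⟩)
    have hm : φ σ ∈ pows5 σ := e ▸ Finset.mem_image_of_mem φ (by simp [pows5])
    obtain ⟨k, hk4, hk⟩ : ∃ k ≤ 4, φ σ = σ ^ k := by
      simp only [pows5, Finset.mem_insert, Finset.mem_singleton] at hm
      rcases hm with r | r | r | r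
      exacts [⟨1, by norm_num, by simpa using r⟩, ⟨2, by norm_num, r⟩, ⟨3, by norm_num, r⟩, ⟨4, le_rfl, r⟩]
    have hit : ∀ n : ℕ, (φ ^ n) σ = σ ^ (k ^ n) := by
      intro n
      induction n with
      | zero => simp
      | succ n ih => rw [pow_succ', MulAut.mul_apply, ih, map_pow, hk, ← pow_mul, ← pow_succ']
    have h' := hit 7
    rw [h] at h'
    haveI : Fact (Nat.Prime 5) := ⟨Nat.prime_five⟩
    have ho : orderOf σ = 5 := orderOf_eq_prime h5 h1
    have hmod : k ^ 7 % 5 = 1 := by
      have := pow_eq_pow_iff_modEq.mp (show σ ^ (k ^ 7) = σ ^ 1 by rw [pow_one]; exact h'.symm)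
      rw [ho] at this
      exact this
    interval_cases k <;> first | (norm_num at hmod; done) | (rw [hk, pow_one])
  refine MulEquiv.ext fun g => ?_
  rw [MulAut.one_apply]
  by_contra hg
  obtain ⟨σ, h5, hne⟩ := five_detect (g⁻¹ * φ g) (fun e => hg (inv_mul_eq_one.mp e).symm)
  refine hne ?_
  have h1 := hfix (g * σ * g⁻¹) (by rw [conj_pow, h5, mul_one, mul_inv_cancel])
  rw [map_mul, map_mul, map_inv, hfix σ h5] at h1
  calc g⁻¹ * φ g * σ = g⁻¹ * (φ g * σ * (φ g)⁻¹) * φ g := by group
    _ = σ * (g⁻¹ * φ g) := by rw [h1]; group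

/-- The symmetric group of degree five has no nontrivial normal 2-subgroup. -/
theorem normal_two_perm_five (N : Subgroup (Equiv.Perm (Fin 5))) [N.Normal] (hN : IsPGroup 2 ↥N) : N = ⊥ := by
  refine (eq_bot_iff_forall _).mpr fun σ hσ => ?_
  have h8 : ∀ x ∈ N, x ^ 8 = 1 := by
    intro x hx
    obtain ⟨k, hk⟩ := hN.exists_card_eq
    have hd := N.card_subgroup_dvd_card
    rw [hk, Nat.card_perm, Nat.card_fin] at hd
    have h3 : 2 ^ k ∣ 2 ^ 3 := Nat.Coprime.dvd_of_dvd_mul_right
      (Nat.Coprime.pow_left k (by norm_num : Nat.Coprime 2 15)) (by simpa [Nat.factorial] using hd)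
    refine orderOf_dvd_iff_pow_eq_one.mp (dvd_trans ?_ h3)
    rw [← hk, show orderOf x = orderOf (⟨x, hx⟩ : ↥N) from Subgroup.orderOf_coe ⟨x, hx⟩]
    exact orderOf_dvd_natCard _
  by_contra h1
  obtain ⟨τ, hτ⟩ := no_normal_two σ (h8 σ hσ) h1
  exact hτ (h8 _ (mul_mem hσ (‹N.Normal›.conj_mem σ hσ τ)))

end Cfsg.Lib.JankoFour.ThreeTwelve
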