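import Cfsg.Agent.JankoFour.ThreeTwelve.Structure
import Cfsg.Prelude.Def_TwoFusion

/-!
The special group of order two to the fifteenth, its normaliser, and the normalisers of the Sylow subgroups for five
and seven inside it, given the local structure at these primes.
-/

set_option autoImplicit false
set_option maxRecDepth 100000
set_option maxHeartbeats 2000000
set_option linter.style.haveILetI false
set_option linter.unusedSectionVars false

namespace Cfsg.Lib.JankoFour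

open Subgroup
open ThreeTwelve
open scoped commutatorElement
open Cfsg.Lib.LargeFischer (L32 card_L32 simple_L32)

universe u

variable {G : Type u} [Group G] [Finite G]

/-- What is used of the normalisers of the subgroups of order five and seven. -/
structure ThreeTwelve.Primes (G : Type u) [Group G] (z : G) : Prop where
  five : ∀ Q : Subgroup G, Nat.card ↥Q = 5 → Q ≤ centralizer ({z} : Set G) →
    ¬ 25 ∣ Nat.card G ∧
    (∃ J : Subgroup G, Cfsg.IsInternalDirectProduct Q J (centralizer (Q : Set G)) ∧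
      ∃ (E : Subgroup ↥J) (_ : E.Normal), Nat.card ↥E = 8 ∧ Nat.card (↥J ⧸ E) = 168 ∧
        ∀ K : Subgroup ↥J, ¬ E.IsComplement' K) ∧
    Nat.card ↥(normalizer (Q : Set G)) = 26880
  seven : ∀ S : Subgroup G, Nat.card ↥S = 7 → S ≤ centralizer ({z} : Set G) →
    ¬ 49 ∣ Nat.card G ∧ Nat.card ↥(normalizer (S : Set G)) = 2520

namespace Ctx

variable {z : G} {P : Subgroup G} (C : Ctx z P)

include C

theorem three_twelve [IsSimpleGroup G] (hG : ¬ IsMulCommutative G) (hp : Primes G z) :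
    ∃ L : Subgroup G, Cfsg.IsSpecial 2 ↥L ∧ Nat.card ↥L = 2 ^ 15 ∧ Nat.card ↥(Subgroup.center ↥L) = 8 ∧
    Nonempty (↥(Subgroup.normalizer (L : Set G)) ⧸ L.subgroupOf (Subgroup.normalizer (L : Set G)) ≃* Equiv.Perm (Fin 5) × Matrix.SpecialLinearGroup (Fin 3) (ZMod 2)) ∧
    (∀ K : Subgroup ↥(Subgroup.normalizer (L : Set G)), ¬ (L.subgroupOf (Subgroup.normalizer (L : Set G))).IsComplement' K) ∧
    (∃ K₁ : Subgroup G, K₁ ≤ Subgroup.normalizer (L : Set G) ∧ Nonempty (↥K₁ ≃* Equiv.Perm (Fin 5))) ∧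
    (∃ K₂ : Subgroup G, K₂ ≤ Subgroup.normalizer (L : Set G) ∧ Nonempty (↥K₂ ≃* Matrix.SpecialLinearGroup (Fin 3) (ZMod 2))) ∧
    (∃ Q : Sylow 5 G, Subgroup.normalizer ((Q : Subgroup G) : Set G) ≤ Subgroup.normalizer (L : Set G)) ∧
    (∃ S : Sylow 7 G, Subgroup.normalizer ((S : Subgroup G) : Set G) ≤ Subgroup.normalizer (L : Set G)) := by
  classical
  haveI : Fact (Nat.Prime 5) := ⟨Nat.prime_five⟩
  haveI : Fact (Nat.Prime 7) := ⟨by norm_num⟩
  haveI : Fact (Nat.Prime 2) := ⟨Nat.prime_two⟩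
  haveI := simple_L32
  set M := normalizer (C.Z8 : Set G) with hM
  obtain ⟨Φ, F, hΦ, hFi, hΦF, hkc, hθC, hEker⟩ : ∃ (Φ : ↥M →* Equiv.Perm (Fin 5) × L32) (F : L32 →* ↥M),
      Function.Surjective Φ ∧ Function.Injective F ∧ (∀ s, Φ (F s) = (1, s)) ∧ Nat.card ↥Φ.ker = 2 ^ 15 ∧
      (∀ g : ↥M, (Φ g).2 = 1 ↔ (g : G) ∈ centralizer (C.Z8 : Set G)) ∧
      ∀ g : ↥M, (g : G) ∈ centralizer (C.Z8 : Set G) → (g : G) ∈ C.E → g ∈ Φ.ker := C.exists_projection hG
  let L : Subgroup G := Φ.ker.map M.subtype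
  have hLc : Nat.card ↥L = 2 ^ 15 := by rw [card_map_of_injective M.subtype_injective, hkc]
  have hLM : L ≤ M := map_subtype_le _
  have hLsub : L.subgroupOf M = Φ.ker := comap_map_eq_self_of_injective M.subtype_injective _
  have hmL : ∀ g : ↥M, (g : G) ∈ L ↔ Φ g = 1 := fun g => by
    rw [← mem_subgroupOf, hLsub, MonoidHom.mem_ker]
  have hLC : L ≤ centralizer (C.Z8 : Set G) := by
    rintro _ ⟨g, hg, rfl⟩
    exact (hθC g).mp (by rw [MonoidHom.mem_ker.mp hg]; rfl)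
  have hLp : IsPGroup 2 ↥L := IsPGroup.of_card hLc
  have hZ8M : C.Z8 ≤ M := le_normalizer
  have hZcomm : ∀ a ∈ C.Z8, ∀ b ∈ C.Z8, Commute a b := fun a ha b hb => C.V_comm (C.Z8_le_V ha) (C.Z8_le_V hb)
  have hZ8L : C.Z8 ≤ L := fun q hq => (hmL ⟨q, hZ8M hq⟩).mpr (hEker ⟨q, hZ8M hq⟩
    (mem_centralizer_iff.mpr fun r hr => (hZcomm r hr q hq).eq) hq.1)
  have hconjL : ∀ g ∈ M, ∀ l ∈ L, g * l * g⁻¹ ∈ L := fun g hg l hl =>
    (hmL (⟨g, hg⟩ * ⟨l, hLM hl⟩ * ⟨g, hg⟩⁻¹)).mpr (by rw [map_mul, map_mul, (hmL ⟨l, hLM hl⟩).mp hl, mul_one, map_inv,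
      mul_inv_cancel])
  have hML : M ≤ normalizer (L : Set G) := fun g hg => Subgroup.mem_normalizer_fintype (hconjL g hg)
  have hnd : ∀ p : ℕ, p.Prime → p ≠ 2 → ¬ p ∣ Nat.card Φ.ker := fun p hp hp2 hd =>
    hp2 ((Nat.prime_dvd_prime_iff_eq hp Nat.prime_two).mp (hp.dvd_of_dvd_pow (hkc ▸ hd)))
  -- the element of order five
  obtain ⟨q', hq'⟩ := exists_prime_orderOf_dvd_card' (G := ↥(centralizer (C.Z8 : Set G))) 5 (by
    rw [C.card_centralizer_Z8 hG]; norm_num)
  let q : ↥M := ⟨q', centralizer_le_normalizer _ q'.2⟩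
  have hq : orderOf q = 5 := by rw [← Subgroup.orderOf_coe q, ← hq', ← Subgroup.orderOf_coe q']
  have hΦq2 : (Φ q).2 = 1 := (hθC q).mpr q'.2
  have hΦq : orderOf (Φ q) = 5 := by
    have h5 : q ^ 5 = 1 := by have h := pow_orderOf_eq_one q; rwa [hq] at h
    refine orderOf_eq_prime (by rw [← map_pow, h5, map_one]) fun h => ?_
    have hd := orderOf_dvd_natCard (⟨q, MonoidHom.mem_ker.mpr h⟩ : Φ.ker)
    rw [← Subgroup.orderOf_coe] at hd
    rw [hq] at hd
    exact hnd 5 Nat.prime_five (by norm_num) hd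
  set σ := (Φ q).1 with hσ
  have hσ5 : σ ^ 5 = 1 := congrArg Prod.fst (show Φ q ^ 5 = 1 by
    have h := pow_orderOf_eq_one (Φ q); rwa [hΦq] at h)
  have hσ1 : σ ≠ 1 := fun e => by
    rw [show Φ q = 1 from Prod.ext e hΦq2, orderOf_one] at hΦq
    omega
  obtain ⟨h25, -, hNQ⟩ := hp.five (zpowers (q : G)) (by rw [Nat.card_zpowers, Subgroup.orderOf_coe, hq])
    (zpowers_le.mpr (C.centralizer_Z8_le q'.2))
  -- normalisers of the subgroup of order five
  have hlift5 : ∀ t : {p : Equiv.Perm (Fin 5) // p * σ * p⁻¹ ∈ pows5 σ} × L32,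
      ∃ n : ↥M, Φ n = (t.1.1, t.2) ∧ n * q * n⁻¹ ∈ zpowers q := by
    intro t
    obtain ⟨g, hg⟩ := hΦ (t.1.1, t.2)
    obtain ⟨n, hn, hn'⟩ := lift_normalizing Φ Nat.prime_five hq hΦq (hnd 5 Nat.prime_five (by norm_num)) (g := g) (by
      have h1 := t.1.2
      simp only [pows5, Finset.mem_insert, Finset.mem_singleton] at h1
      have key : ∀ k : ℕ, t.1.1 * σ * t.1.1⁻¹ = σ ^ k → Φ g * Φ q * (Φ g)⁻¹ ∈ zpowers (Φ q) := fun k hk => by
        refine mem_zpowers_iff.mpr ⟨k, ?_⟩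
        rw [zpow_natCast, hg]
        refine Prod.ext ?_ ?_
        · rw [Prod.pow_fst]; exact hk.symm
        · rw [Prod.pow_snd, Prod.snd_mul, Prod.snd_mul, Prod.snd_inv, hΦq2, one_pow, mul_one, mul_inv_cancel]
      rcases h1 with r | r | r | r
      exacts [key 1 (by rw [pow_one]; exact r), key 2 r, key 3 r, key 4 r])
    exact ⟨n, hn.trans hg, hn'⟩
  choose n5 hn5Φ hn5 using hlift5
  have hmN : ∀ {p : ℕ} (hp : p.Prime) (a g : ↥M), orderOf a = p → g * a * g⁻¹ ∈ zpowers a →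
      (g : G) ∈ normalizer (zpowers (a : G) : Set G) := fun {p} _ a g _ h => by
    refine Subgroup.mem_normalizer_fintype fun x hx => ?_
    obtain ⟨k, rfl⟩ := mem_zpowers_iff.mp hx
    obtain ⟨j, hj⟩ := mem_zpowers_iff.mp h
    rw [← conj_zpow]
    refine zpow_mem ?_ k
    have e : (g : G) * a * (g : G)⁻¹ = ((a : G)) ^ j := by
      have := congrArg Subtype.val hj.symm
      simpa using this
    rw [e]
    exact zpow_mem (mem_zpowers _) j
  have hZq : ∀ a ∈ C.Z8, Commute (q : G) a := fun a ha => (mem_centralizer_iff.mp q'.2 a ha).symm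
  let f5 : ({p : Equiv.Perm (Fin 5) // p * σ * p⁻¹ ∈ pows5 σ} × L32) × ↥C.Z8 → ↥(normalizer (zpowers (q : G) : Set G)) :=
    fun t => ⟨(n5 t.1 : G) * t.2, mul_mem (hmN Nat.prime_five q (n5 t.1) hq (hn5 t.1))
      (centralizer_le_normalizer _ (mem_centralizer_iff.mpr fun x hx => by
        obtain ⟨k, rfl⟩ := mem_zpowers_iff.mp hx
        exact ((hZq _ t.2.2).zpow_left k).eq))⟩
  have hf5Φ : ∀ t, ∀ h : (f5 t : G) ∈ M, Φ ⟨(f5 t : G), h⟩ = (t.1.1.1, t.1.2) := fun t h => by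
    rw [show (⟨(f5 t : G), h⟩ : ↥M) = n5 t.1 * ⟨(t.2 : G), hZ8M t.2.2⟩ from Subtype.ext rfl, map_mul, hn5Φ,
      (hmL ⟨(t.2 : G), hZ8M t.2.2⟩).mp (hZ8L t.2.2), mul_one]
  have hf5M : ∀ t, (f5 t : G) ∈ M := fun t => mul_mem (n5 t.1).2 (hZ8M t.2.2)
  have hf5 : Function.Bijective f5 := by
    refine (Nat.bijective_iff_injective_and_card f5).mpr ⟨fun a b e => ?_, ?_⟩
    · have e' : (f5 a : G) = f5 b := congrArg Subtype.val e
      have h1 := hf5Φ a (hf5M a)
      have h2 := hf5Φ b (hf5M b)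
      rw [show (⟨(f5 a : G), hf5M a⟩ : ↥M) = ⟨(f5 b : G), hf5M b⟩ from Subtype.ext e', h2] at h1
      have h3 : a.1 = b.1 := Prod.ext (Subtype.ext (congrArg Prod.fst h1).symm) (congrArg Prod.snd h1).symm
      refine Prod.ext h3 (Subtype.ext ?_)
      have e'' : (n5 a.1 : G) * a.2 = n5 b.1 * b.2 := e'
      rw [h3] at e''
      exact mul_left_cancel e''
    · rw [Nat.card_prod, Nat.card_prod, C.card_Z8, card_L32, hNQ, Nat.card_eq_fintype_card,
        Fintype.card_subtype, five_normal σ hσ5 hσ1]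
  have hNQM : normalizer (zpowers (q : G) : Set G) ≤ M := fun x hx => by
    obtain ⟨t, ht⟩ := hf5.2 ⟨x, hx⟩
    have := hf5M t
    rwa [ht] at this
  have hCLq : ∀ l ∈ L, Commute l (q : G) → l ∈ C.Z8 := by
    intro l hl hc
    have key : ∀ x, ∀ hx : x ∈ normalizer (zpowers (q : G) : Set G), x ∈ L →
        ∃ t, (f5 t : G) = x ∧ t.1.1.1 = 1 ∧ t.1.2 = 1 := fun x hx hxL => by
      obtain ⟨t, ht⟩ := hf5.2 ⟨x, hx⟩
      have e : (f5 t : G) = x := congrArg Subtype.val ht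
      have h1 := hf5Φ t (hf5M t)
      rw [(hmL _).mp (e.symm ▸ hxL : (f5 t : G) ∈ L)] at h1
      exact ⟨t, e, (congrArg Prod.fst h1).symm, (congrArg Prod.snd h1).symm⟩
    have hlN : l ∈ normalizer (zpowers (q : G) : Set G) := centralizer_le_normalizer _ (mem_centralizer_iff.mpr fun x hx => by
      obtain ⟨k, rfl⟩ := mem_zpowers_iff.mp hx
      exact (hc.zpow_right k).eq.symm)
    obtain ⟨t, e, t1, t2⟩ := key l hlN hl
    obtain ⟨t', e', t1', t2'⟩ := key 1 (one_mem _) (one_mem _)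
    have htt : t.1 = t'.1 := Prod.ext (Subtype.ext (t1.trans t1'.symm)) (t2.trans t2'.symm)
    have e1 : (n5 t.1 : G) * t.2 = l := e
    have e2 : (n5 t'.1 : G) * t'.2 = 1 := e'
    rw [← htt] at e2
    rw [eq_inv_of_mul_eq_one_left e2] at e1
    rw [← e1]
    exact mul_mem (inv_mem t'.2.2) t.2.2
  -- the element of order seven
  obtain ⟨s7, hs7⟩ := exists_prime_orderOf_dvd_card' (G := L32) 7 (by rw [card_L32]; norm_num)
  set x := F s7 with hx
  have hxo : orderOf x = 7 := by rw [hx, orderOf_injective F hFi, hs7]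
  have hΦx : Φ x = (1, s7) := hΦF s7
  have hΦxo : orderOf (Φ x) = 7 := by rw [hΦx, Prod.orderOf_mk, orderOf_one, hs7]; rfl
  have hcard7 : Nat.card ↥(zpowers (x : G)) = 7 := by rw [Nat.card_zpowers, Subgroup.orderOf_coe, hxo]
  obtain ⟨h49, hNS⟩ : ¬ 49 ∣ Nat.card G ∧ Nat.card ↥(normalizer (zpowers (x : G) : Set G)) = 2520 := by
    obtain ⟨y, hy⟩ := exists_prime_orderOf_dvd_card' (G := ↥(centralizer ({z} : Set G))) 7 (by rw [C.cardH]; norm_num)
    obtain ⟨h49, hn⟩ := hp.seven (zpowers (y : G)) (by rw [Nat.card_zpowers, Subgroup.orderOf_coe, hy])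
      (zpowers_le.mpr y.2)
    refine ⟨h49, ?_⟩
    have hfac : (Nat.card G).factorization 7 = 1 := by
      refine le_antisymm ?_ ((Fact.out : Nat.Prime 7).factorization_pos_of_dvd Nat.card_pos.ne' ?_)
      · by_contra h
        exact h49 ((pow_dvd_pow 7 (show 2 ≤ (Nat.card G).factorization 7 by omega)).trans (Nat.ordProj_dvd _ _))
      · exact hcard7 ▸ Subgroup.card_subgroup_dvd_card _
    let S₁ : Sylow 7 G := Sylow.ofCard (zpowers (x : G)) (by rw [hcard7, hfac, pow_one])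
    let S₂ : Sylow 7 G := Sylow.ofCard (zpowers (y : G)) (by
      rw [Nat.card_zpowers, Subgroup.orderOf_coe, hy, hfac, pow_one])
    obtain ⟨g, hg⟩ := MulAction.exists_smul_eq G S₂ S₁
    have he : (zpowers (y : G)).map (MulAut.conj g).toMonoidHom = zpowers (x : G) := by
      have := congrArg (fun S : Sylow 7 G => (S : Subgroup G)) hg
      rw [Sylow.coe_subgroup_smul] at this
      exact this
    rw [← he, ← Subgroup.map_equiv_normalizer_eq, Subgroup.card_map_of_injective (MulAut.conj g).injective, hn]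
  have hlift7 : ∀ t : Equiv.Perm (Fin 5) × ↥(normalizer (zpowers s7 : Set L32)),
      ∃ n : ↥M, Φ n = (t.1, (t.2 : L32)) ∧ n * x * n⁻¹ ∈ zpowers x := by
    intro t
    obtain ⟨g, hg⟩ := hΦ (t.1, (t.2 : L32))
    obtain ⟨n, hn, hn'⟩ := lift_normalizing Φ Fact.out hxo hΦxo (hnd 7 Fact.out (by norm_num)) (g := g) (by
      obtain ⟨k, hk⟩ := mem_zpowers_iff.mp ((mem_normalizer_iff.mp t.2.2 s7).mp (mem_zpowers s7))
      refine mem_zpowers_iff.mpr ⟨k, ?_⟩
      rw [hg, hΦx]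
      refine Prod.ext ?_ ?_
      · show (1 : Equiv.Perm (Fin 5)) ^ k = t.1 * 1 * t.1⁻¹
        rw [one_zpow, mul_one, mul_inv_cancel]
      · exact hk)
    exact ⟨n, hn.trans hg, hn'⟩
  choose n7 hn7Φ hn7 using hlift7
  let f7 : Equiv.Perm (Fin 5) × ↥(normalizer (zpowers s7 : Set L32)) → ↥(normalizer (zpowers (x : G) : Set G)) :=
    fun t => ⟨n7 t, hmN Fact.out x (n7 t) hxo (hn7 t)⟩
  have hf7 : Function.Bijective f7 := by
    refine (Nat.bijective_iff_injective_and_card f7).mpr ⟨fun a b e => ?_, ?_⟩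
    · have e' : n7 a = n7 b := Subtype.ext (congrArg Subtype.val e :)
      have h := (hn7Φ a).symm.trans ((congrArg Φ e').trans (hn7Φ b))
      exact Prod.ext (congrArg (fun p : Equiv.Perm (Fin 5) × L32 => p.1) h)
        (Subtype.ext (congrArg (fun p : Equiv.Perm (Fin 5) × L32 => p.2) h))
    · rw [Nat.card_prod, hNS, seven_normal card_L32 hs7, Nat.card_perm, Nat.card_fin]; rfl
  have hNSM : normalizer (zpowers (x : G) : Set G) ≤ M := fun g hg => by
    obtain ⟨t, ht⟩ := hf7.2 ⟨g, hg⟩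
    rw [← show (n7 t : G) = g from congrArg Subtype.val ht]
    exact (n7 t).2
  have hCLx : ∀ l ∈ L, Commute l (x : G) → l = 1 := by
    intro l hl hc
    have hlN : l ∈ normalizer (zpowers (x : G) : Set G) := centralizer_le_normalizer _ (mem_centralizer_iff.mpr fun y hy => by
      obtain ⟨k, rfl⟩ := mem_zpowers_iff.mp hy
      exact (hc.zpow_right k).eq.symm)
    have key : ∀ y, ∀ hy : y ∈ normalizer (zpowers (x : G) : Set G), y ∈ L → ∃ t, (n7 t : G) = y ∧ t.1 = 1 ∧ t.2 = 1 := fun y hy hyL => by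
      obtain ⟨t, ht⟩ := hf7.2 ⟨y, hy⟩
      have e : (n7 t : G) = y := congrArg Subtype.val ht
      have h1 := hn7Φ t
      rw [(hmL _).mp (e.symm ▸ hyL : (n7 t : G) ∈ L)] at h1
      exact ⟨t, e, (congrArg Prod.fst h1).symm, Subtype.ext (congrArg Prod.snd h1).symm⟩
    obtain ⟨t, e, t1, t2⟩ := key l hlN hl
    obtain ⟨t', e', t1', t2'⟩ := key 1 (one_mem _) (one_mem _)
    rw [← e, ← e', show t = t' from Prod.ext (t1.trans t1'.symm) (t2.trans t2'.symm)]
  -- nothing lies between the subgroup of order eight and the special group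
  have hbetween : ∀ X : Subgroup G, C.Z8 ≤ X → X ≤ L → (∀ g ∈ M, ∀ y ∈ X, g * y * g⁻¹ ∈ X) → X = C.Z8 ∨ X = L := by
    intro X h1 h2 h3
    obtain ⟨k, hk, hXk⟩ := (Nat.dvd_prime_pow Nat.prime_two).mp (hLc ▸ Subgroup.card_dvd_of_le h2)
    have h8 := Subgroup.card_le_of_le h1
    rw [C.card_Z8, hXk] at h8
    have e5 : X ⊓ centralizer ({(q : G)} : Set G) = C.Z8 :=
      le_antisymm (fun l hl => hCLq l (h2 (mem_inf.mp hl).1) (mem_centralizer_singleton_iff.mp (mem_inf.mp hl).2))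
        fun a ha => mem_inf.mpr ⟨h1 ha, mem_centralizer_singleton_iff.mpr (hZq a ha).symm.eq⟩
    have e7 : X ⊓ centralizer ({(x : G)} : Set G) = ⊥ := (eq_bot_iff_forall _).mpr fun l hl =>
      hCLx l (h2 (mem_inf.mp hl).1) (mem_centralizer_singleton_iff.mp (mem_inf.mp hl).2)
    have m5 := card_modEq_fixed Nat.prime_five (y := (q : G)) (X := X) (by rw [Subgroup.orderOf_coe, hq]) (h3 _ q.2)
    have m7 := card_modEq_fixed (p := 7) Fact.out (y := (x : G)) (X := X) (by rw [Subgroup.orderOf_coe, hxo]) (h3 _ x.2)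
    rw [e5, hXk, C.card_Z8] at m5
    rw [e7, hXk, card_bot] at m7
    unfold Nat.ModEq at m5 m7
    have hk3 : k = 3 ∨ k = 15 := by
      interval_cases k <;> simp_all
    rcases hk3 with rfl | rfl
    · exact Or.inl (eq_of_le_of_card_ge h1 (by rw [hXk, C.card_Z8]; norm_num)).symm
    · exact Or.inr (eq_of_le_of_card_ge h2 (by rw [hXk, hLc]))
  have hsmall : ∀ X : Subgroup G, X ≤ C.Z8 → X ≠ ⊥ → (∀ g ∈ M, ∀ y ∈ X, g * y * g⁻¹ ∈ X) → X = C.Z8 := by
    intro X h1 h2 h3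
    obtain ⟨k, hk, hXk⟩ := (Nat.dvd_prime_pow (m := 3) Nat.prime_two).mp
      (show Nat.card ↥X ∣ 2 ^ 3 by simpa [C.card_Z8] using Subgroup.card_dvd_of_le h1)
    have e7 : X ⊓ centralizer ({(x : G)} : Set G) = ⊥ := (eq_bot_iff_forall _).mpr fun l hl =>
      hCLx l (hZ8L (h1 (mem_inf.mp hl).1)) (mem_centralizer_singleton_iff.mp (mem_inf.mp hl).2)
    have m7 := card_modEq_fixed (p := 7) Fact.out (y := (x : G)) (X := X) (by rw [Subgroup.orderOf_coe, hxo]) (h3 _ x.2)
    rw [e7, hXk, card_bot] at m7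
    unfold Nat.ModEq at m7
    have hk0 : k ≠ 0 := fun e => h2 (Subgroup.card_eq_one.mp (by rw [hXk, e, pow_zero]))
    have hk3 : k = 3 := by interval_cases k <;> simp_all
    exact eq_of_le_of_card_ge h1 (by rw [hXk, hk3, C.card_Z8]; norm_num)
  -- characteristic subgroups
  let conjAut : ∀ g ∈ M, MulAut ↥L := fun g hg =>
    { toFun := fun l => ⟨g * l * g⁻¹, hconjL g hg _ l.2⟩
      invFun := fun l => ⟨g⁻¹ * l * g⁻¹⁻¹, hconjL _ (inv_mem hg) _ l.2⟩
      left_inv := fun l => Subtype.ext (by group)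
      right_inv := fun l => Subtype.ext (by group)
      map_mul' := fun a b => Subtype.ext (by simp only [Subgroup.coe_mul]; group) }
  have hchar : ∀ (Y : Subgroup ↥L), Y.Characteristic → ∀ g ∈ M, ∀ y ∈ Y.map L.subtype, g * y * g⁻¹ ∈ Y.map L.subtype := by
    rintro Y hY g hg _ ⟨y, hy, rfl⟩
    exact ⟨conjAut g hg y, by rw [← hY.fixed (conjAut g hg)] at hy; exact hy, rfl⟩
  let Zs : Subgroup ↥L := C.Z8.subgroupOf L
  have hZmap : Zs.map L.subtype = C.Z8 := map_subgroupOf_eq_of_le hZ8L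
  have hjoin : ∀ Y : Subgroup ↥L, Y.Characteristic → Y ⊔ Zs ≠ ⊤ → Y.map L.subtype ≤ C.Z8 := by
    intro Y hY hne
    have h3 : ∀ g ∈ M, ∀ y ∈ (Y ⊔ Zs).map L.subtype, g * y * g⁻¹ ∈ (Y ⊔ Zs).map L.subtype := by
      intro g hg y hy
      rw [Subgroup.map_sup, hZmap] at hy ⊢
      have hle : Y.map L.subtype ⊔ C.Z8 ≤ (Y.map L.subtype ⊔ C.Z8).comap (MulAut.conj g).toMonoidHom :=
        sup_le (fun a ha => mem_sup_left (hchar Y hY g hg a ha))
          (fun a ha => mem_sup_right ((mem_normalizer_iff.mp hg a).mp ha))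
      exact hle hy
    rcases hbetween _ (hZmap ▸ map_mono le_sup_right) (map_subtype_le _) h3 with e | e
    · exact e ▸ map_mono le_sup_left
    · refine absurd (map_injective L.subtype_injective (e.trans ?_)) hne
      rw [← MonoidHom.range_eq_map, range_subtype]
  have hne8 : Zs ≠ ⊤ := fun e => by
    rw [e, ← MonoidHom.range_eq_map, range_subtype] at hZmap
    have := hLc
    rw [hZmap, C.card_Z8] at this
    norm_num at this
  -- the extraspecial part is not commutative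
  obtain ⟨a, b, haL, hbL, hab⟩ : ∃ a b : G, a ∈ L ∧ b ∈ L ∧ ¬ Commute a b := by
    obtain ⟨p1, p2, p3, p4, p5⟩ := perp_ok
    obtain ⟨v, w, hv, hw, hv', hw', -⟩ := C.exists_pair
    obtain ⟨a, ha, ha'⟩ := C.π_surj 1 (by norm_num)
    obtain ⟨b, hb, hb'⟩ := C.π_surj 2 (by norm_num)
    have hin : ∀ e ∈ C.E, pB (C.π e) 21 = false → pB (C.π e) 42 = false → e ∈ L := by
      intro e he h1 h2
      have hec : e ∈ centralizer (C.Z8 : Set G) := C.mem_centralizer_Z8 hv.1 hv' hw.1 hw' (C.le he)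
        ((C.π_comm e he v hv.1).mpr (by rw [hv', h1])) ((C.π_comm e he w hw.1).mpr (by rw [hw', h2]))
      exact (hmL ⟨e, centralizer_le_normalizer _ hec⟩).mpr (hEker ⟨e, centralizer_le_normalizer _ hec⟩ hec he)
    refine ⟨a, b, hin a ha (ha' ▸ p1) (ha' ▸ p2), hin b hb (hb' ▸ p3) (hb' ▸ p4), fun h => ?_⟩
    have := (C.π_comm a ha b hb).mp h
    rw [ha', hb', p5] at this
    exact Bool.noConfusion this
  have hfr : (frattini ↥L).map L.subtype ≤ C.Z8 := by
    refine hjoin _ inferInstance fun h => hne8 ?_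
    exact frattini_nongenerating (by rwa [sup_comm])
  have hcentre : center ↥L = Zs := by
    have h1 : Zs ≤ center ↥L := fun y hy => mem_center_iff.mpr fun l => Subtype.ext
      ((mem_centralizer_iff.mp (hLC l.2) (y : G) hy).symm)
    refine le_antisymm ?_ h1
    intro c hc
    refine mem_subgroupOf.mpr (hjoin (center ↥L) inferInstance ?_ ⟨c, hc, rfl⟩)
    rw [sup_eq_left.mpr h1]
    intro h
    refine hab ?_
    exact congrArg Subtype.val (mem_center_iff.mp (h ▸ mem_top (⟨b, hbL⟩ : ↥L)) ⟨a, haL⟩)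
  have hcomm : commutator ↥L ≤ frattini ↥L := Cfsg.Lib.PGroups.commutator_le_frattini hLp
  have hcommZ : (commutator ↥L).map L.subtype = C.Z8 := by
    refine hsmall _ ((map_mono hcomm).trans hfr) (fun h => hab ?_) (hchar _ inferInstance)
    have hm : ⁅(⟨a, haL⟩ : ↥L), ⟨b, hbL⟩⁆ ∈ commutator ↥L :=
      commutator_mem_commutator (mem_top _) (mem_top _)
    have h1 : L.subtype ⁅(⟨a, haL⟩ : ↥L), ⟨b, hbL⟩⁆ ∈ (commutator ↥L).map L.subtype := mem_map_of_mem _ hm
    rw [h, mem_bot, map_commutatorElement] at h1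
    exact commutatorElement_eq_one_iff_mul_comm.mp h1
  have hfrZ : (frattini ↥L).map L.subtype = C.Z8 := le_antisymm hfr (hcommZ ▸ map_mono hcomm)
  have hspecial : Cfsg.IsSpecial 2 ↥L := by
    refine ⟨hLp, ?_, ?_⟩
    · rw [hcentre]; exact map_injective L.subtype_injective (hfrZ.trans hZmap.symm)
    · rw [hcentre]; exact map_injective L.subtype_injective (hcommZ.trans hZmap.symm)
  -- the normaliser
  have hNL : normalizer (L : Set G) = M := by
    refine le_antisymm (fun g hg => Subgroup.mem_normalizer_fintype fun a ha => ?_) hML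
    have hn : ∀ y, y ∈ L → g * y * g⁻¹ ∈ L := fun y hy => (mem_normalizer_iff.mp hg y).mp hy
    have haL' := hn a (hZ8L ha)
    have hc : (⟨g * a * g⁻¹, haL'⟩ : ↥L) ∈ center ↥L := mem_center_iff.mpr fun l => Subtype.ext (by
      show (l : G) * (g * a * g⁻¹) = g * a * g⁻¹ * l
      have hl : g⁻¹ * (l : G) * g ∈ L := by
        simpa using (mem_normalizer_iff.mp (inv_mem hg) (l : G)).mp l.2
      have h1 := mem_centralizer_iff.mp (hLC hl) a ha
      calc (l : G) * (g * a * g⁻¹) = g * ((g⁻¹ * l * g) * a) * g⁻¹ := by group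
        _ = g * (a * (g⁻¹ * l * g)) * g⁻¹ := by rw [h1]
        _ = g * a * g⁻¹ * l := by group)
    rw [hcentre] at hc
    exact hc
  refine ⟨L, hspecial, hLc, ?_, ?_, ?_, ?_, ?_, ?_, ?_⟩
  · rw [hcentre, Nat.card_congr (subgroupOfEquivOfLe hZ8L).toEquiv, C.card_Z8]
  · have key : ∀ N : Subgroup G, N = M → ∀ [(L.subgroupOf N).Normal],
        Nonempty (↥N ⧸ L.subgroupOf N ≃* Equiv.Perm (Fin 5) × Matrix.SpecialLinearGroup (Fin 3) (ZMod 2)) := by
      rintro N rfl _
      exact ⟨(QuotientGroup.quotientMulEquivOfEq hLsub).trans (QuotientGroup.quotientKerEquivOfSurjective Φ hΦ)⟩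
    exact key _ hNL
  · rw [hNL, hLsub]
    intro K hK
    have hinj : ∀ k ∈ K, Φ k = 1 → k = 1 := fun k hk h => mem_bot.mp
      (hK.disjoint.eq_bot ▸ mem_inf.mpr ⟨MonoidHom.mem_ker.mpr h, hk⟩)
    have hsur : ∀ t, ∃ k ∈ K, Φ k = t := fun t => by
      obtain ⟨g, rfl⟩ := hΦ t
      obtain ⟨⟨l, k⟩, e, -⟩ := isComplement_iff_existsUnique.mp hK g
      refine ⟨k, k.2, ?_⟩
      rw [← show (l : ↥M) * k = g from e, map_mul, MonoidHom.mem_ker.mp l.2, one_mul]
    obtain ⟨k0, hk0, hk0Φ⟩ := hsur (σ, 1)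
    have hk0o : orderOf (k0 : G) = 5 := by
      rw [Subgroup.orderOf_coe]
      refine orderOf_eq_prime (hinj _ (pow_mem hk0 5) ?_) fun e => hσ1 ?_
      · rw [map_pow, hk0Φ, Prod.pow_mk, hσ5, one_pow]; rfl
      · rw [e, map_one] at hk0Φ
        exact (congrArg Prod.fst hk0Φ).symm
    have hk0H : (k0 : G) ∈ centralizer ({z} : Set G) :=
      C.centralizer_Z8_le ((hθC k0).mp (by rw [hk0Φ]))
    have hQc : Nat.card ↥(zpowers (k0 : G)) = 5 := by rw [Nat.card_zpowers, hk0o]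
    obtain ⟨-, ⟨J, ⟨hQC, hJC, hQJ, hQJ1, hQJt⟩, Eo, hEn, hEc, hEq, hnc⟩, -⟩ :=
      hp.five _ hQc (zpowers_le.mpr hk0H)
    choose lk hlkK hlkΦ using fun s : L32 => hsur (1, s)
    have hlk_mul : ∀ s t, lk (s * t) = lk s * lk t := fun s t => inv_mul_eq_one.mp (hinj _
      (mul_mem (inv_mem (hlkK _)) (mul_mem (hlkK _) (hlkK _))) (by
        rw [map_mul, map_mul, map_inv, hlkΦ, hlkΦ, hlkΦ]
        ext <;> simp)) |>.symm.symm
    let l0 : L32 →* ↥M := MonoidHom.mk' lk hlk_mul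
    have hl0C : ∀ s, (l0 s : G) ∈ centralizer (zpowers (k0 : G) : Set G) := fun s => by
      have h : lk s * k0 = k0 * lk s := inv_mul_eq_one.mp (hinj _
        (mul_mem (inv_mem (mul_mem (hlkK s) hk0)) (mul_mem hk0 (hlkK s))) (by
          rw [map_mul, map_inv, map_mul, map_mul, hlkΦ, hk0Φ]
          ext <;> simp))
      have h' : Commute (lk s : G) (k0 : G) := congrArg Subtype.val h
      refine mem_centralizer_iff.mpr fun y hy => ?_
      obtain ⟨k, rfl⟩ := mem_zpowers_iff.mp hy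
      exact (h'.zpow_right k).eq.symm
    have hJmem : ∀ s, (l0 s : G) ∈ J := fun s => by
      have hm : (l0 s : G) ∈ ((zpowers (k0 : G) ⊔ J : Subgroup G) : Set G) := hQJt.symm ▸ hl0C s
      rw [coe_mul_of_right_le_normalizer_left (zpowers (k0 : G)) J
        (hJC.trans (centralizer_le_normalizer _))] at hm
      obtain ⟨a, ha, j, hj, e⟩ := Set.mem_mul.mp hm
      have h168 : (l0 s : G) ^ 168 = 1 := by
        rw [← SubgroupClass.coe_pow, ← map_pow, ← card_L32, pow_card_eq_one', map_one]; rfl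
      rw [← e, (show Commute a j from hQJ a ha j hj).mul_pow] at h168
      have h1 : a ^ 168 = 1 := mem_bot.mp (hQJ1 ▸ mem_inf.mpr
        ⟨pow_mem ha _, eq_inv_of_mul_eq_one_left h168 ▸ inv_mem (pow_mem hj _)⟩)
      have h5 : a ^ 5 = 1 := by
        have := pow_card_eq_one' (x := (⟨a, ha⟩ : ↥(zpowers (k0 : G))))
        rw [hQc] at this
        exact congrArg Subtype.val this
      have ha1 : a = 1 := by
        have h3 : a ^ 170 = 1 := by rw [show 170 = 5 * 34 from rfl, pow_mul, h5, one_pow]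
        have h2 : a ^ 2 = 1 := by rw [← h3, show 170 = 168 + 2 from rfl, pow_add, h1, one_mul]
        rw [show (5 : ℕ) = 2 + 2 + 1 from rfl, pow_succ, pow_add, h2, one_mul, one_mul] at h5
        exact h5
      rw [← e, ha1, one_mul]; exact hj
    let l1 : L32 →* ↥J := (M.subtype.comp l0).codRestrict J hJmem
    have hl1 : Function.Injective l1 := (injective_iff_map_eq_one _).mpr fun s hs => by
      have h : lk s = 1 := Subtype.ext (congrArg (fun y : ↥J => (y : G)) hs :)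
      have h2 := hlkΦ s
      rw [h, map_one] at h2
      exact (congrArg Prod.snd h2).symm
    haveI := hEn
    have hmeet : Eo.comap l1 = ⊥ := by
      refine (IsSimpleGroup.eq_bot_or_eq_top_of_normal (Eo.comap l1) inferInstance).resolve_right fun e => ?_
      have hsub : l1.range ≤ Eo := by
        rintro _ ⟨s, rfl⟩
        exact (e ▸ mem_top s : s ∈ Eo.comap l1)
      have := Subgroup.card_le_of_le hsub
      rw [← Nat.card_congr (MonoidHom.ofInjective hl1).toEquiv, card_L32, hEc] at this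
      omega
    refine hnc l1.range (Subgroup.isComplement'_of_card_mul_and_disjoint ?_ ?_)
    · rw [← Nat.card_congr (MonoidHom.ofInjective hl1).toEquiv, card_L32, hEc, ← Eo.card_mul_index,
        hEc, Subgroup.index, hEq]
    · refine disjoint_iff.mpr ((eq_bot_iff_forall _).mpr ?_)
      rintro _ ⟨hy, s, rfl⟩
      have : s = 1 := mem_bot.mp (hmeet ▸ (hy : s ∈ Eo.comap l1))
      rw [this, map_one]
  · -- the symmetric group
    rw [hNL]
    let I : Subgroup G := centralizer (C.Z8 : Set G) ⊓ centralizer ({(x : G)} : Set G)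
    have hIM : I ≤ M := inf_le_left.trans (centralizer_le_normalizer _)
    let r : ↥I →* Equiv.Perm (Fin 5) := (MonoidHom.fst _ _).comp (Φ.comp (Subgroup.inclusion hIM))
    refine ⟨I, hIM, ⟨MulEquiv.ofBijective r ⟨(injective_iff_map_eq_one _).mpr fun g hg => ?_, fun p => ?_⟩⟩⟩
    · have h2 : (Φ (Subgroup.inclusion hIM g)).2 = 1 := (hθC _).mpr (mem_inf.mp g.2).1
      exact Subtype.ext (hCLx _ ((hmL (Subgroup.inclusion hIM g)).mpr (Prod.ext hg h2))
        (mem_centralizer_singleton_iff.mp (mem_inf.mp g.2).2))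
    · have hn := hn7Φ (p, 1)
      have hnC : (n7 (p, 1) : G) ∈ centralizer (C.Z8 : Set G) := (hθC _).mp (by rw [hn]; rfl)
      obtain ⟨j, hj⟩ := mem_zpowers_iff.mp (hn7 (p, 1))
      have h1 : Φ x ^ j = Φ x := by
        rw [← map_zpow, hj, map_mul, map_mul, map_inv, hn, hΦx]
        ext <;> simp
      have hdvd : (orderOf x : ℤ) ∣ j - 1 := by
        rw [hxo, ← hΦxo, orderOf_dvd_iff_zpow_eq_one, zpow_sub, zpow_one, h1, mul_inv_cancel]
      rw [orderOf_dvd_iff_zpow_eq_one, zpow_sub, zpow_one, mul_inv_eq_one] at hdvd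
      rw [hdvd] at hj
      refine ⟨⟨_, mem_inf.mpr ⟨hnC, mem_centralizer_singleton_iff.mpr
        (congrArg Subtype.val (mul_inv_eq_iff_eq_mul.mp hj.symm))⟩⟩, ?_⟩
      show (Φ (n7 (p, 1))).1 = p
      rw [hn]
  · rw [hNL]
    exact ⟨(M.subtype.comp F).range, by rintro _ ⟨s, rfl⟩; exact (F s).2,
      ⟨(MonoidHom.ofInjective (f := M.subtype.comp F) (show Function.Injective (M.subtype.comp F) from
        fun a b e => hFi (Subtype.ext e))).symm⟩⟩
  · rw [hNL]
    refine ⟨Sylow.ofCard (zpowers (q : G)) ?_, hNQM⟩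
    have hc : Nat.card ↥(zpowers (q : G)) = 5 := by rw [Nat.card_zpowers, Subgroup.orderOf_coe, hq]
    rw [hc]
    have h1 := (Nat.prime_five).factorization_pos_of_dvd (Nat.card_pos (α := G)).ne'
      (hc ▸ Subgroup.card_subgroup_dvd_card (zpowers (q : G)))
    have h2 : ¬ 2 ≤ (Nat.card G).factorization 5 := fun h => h25 ((pow_dvd_pow 5 h).trans (Nat.ordProj_dvd _ _))
    rw [show (Nat.card G).factorization 5 = 1 by omega, pow_one]
  · rw [hNL]
    refine ⟨Sylow.ofCard (zpowers (x : G)) ?_, hNSM⟩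
    rw [hcard7]
    have h1 := (Fact.out : Nat.Prime 7).factorization_pos_of_dvd (Nat.card_pos (α := G)).ne'
      (hcard7 ▸ Subgroup.card_subgroup_dvd_card (zpowers (x : G)))
    have h2 : ¬ 2 ≤ (Nat.card G).factorization 7 := fun h => h49 ((pow_dvd_pow 7 h).trans (Nat.ordProj_dvd _ _))
    rw [show (Nat.card G).factorization 7 = 1 by omega, pow_one]

end Ctx

end Cfsg.Lib.JankoFour
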