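import Cfsg.Agent.JankoFour.ThreeTwelve.Checks

/-!
A pure subgroup of order eight in the extraspecial group: its centraliser, of order two to the eighteenth times
fifteen, permutes five images of the distinguished space as the symmetric group.
-/

set_option autoImplicit false
set_option maxRecDepth 100000
set_option maxHeartbeats 1000000
set_option linter.style.haveILetI false
set_option linter.unusedSectionVars false

namespace Cfsg.Lib.JankoFour

open Subgroup
open Data (W0 w0B imgC)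
open ThreeTwelve

universe u

variable {G : Type u} [Group G] [Finite G]

theorem ThreeTwelve.zC_xor {a b : ℕ} (ha : a ∈ zC) (hb : b ∈ zC) : a ^^^ b ∈ zC := by
  have h := zC_facts.1
  simp only [List.all_eq_true, Bool.and_eq_true, List.contains_iff_mem] at h
  exact ((h a ha).2 b hb).1

theorem ThreeTwelve.zC_W0 {a : ℕ} (ha : a ∈ zC) : a ∈ W0 := by
  have h := zC_facts.1
  simp only [List.all_eq_true, Bool.and_eq_true, List.contains_iff_mem] at h
  exact (h a ha).1

theorem ThreeTwelve.mem_cl0 {x : ℕ} : x ∈ cl0 ↔ x < 4096 ∧ x ≠ 0 ∧ qB x = false ∧ cls x = 0 := by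
  simp [cl0, List.mem_filter, and_assoc]

theorem ThreeTwelve.imW_lt {j x : ℕ} (hx : x ∈ imW j) (hj : j < 77) : x < 4096 := by
  have h := List.all_eq_true.mp imW_nodup j (List.mem_range.mpr hj)
  simp only [Bool.and_eq_true, List.all_eq_true, decide_eq_true_eq] at h
  exact h.2 x hx

theorem ThreeTwelve.span_image {M : List ℕ} {j k : ℕ}
    (h : ∀ b ∈ w0B, mv M (mv (wM gens5 (imgC.getD j [])) b) ∈ imW k) {x : ℕ} (hx : x ∈ imW j) : mv M x ∈ imW k := by
  obtain ⟨y, hy, rfl⟩ := List.mem_map.mp hx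
  refine spanX_ind (p := fun y => mv M (mv (wM gens5 (imgC.getD j [])) y) ∈ imW k)
    (List.mem_map.mpr ⟨0, W0_zero, by simp [mv_zero]⟩) w0B (fun b hb y hy => ?_) y (W0_of_span hy)
  obtain ⟨a, ha, e1⟩ := List.mem_map.mp (h b hb)
  obtain ⟨c, hc, e2⟩ := List.mem_map.mp hy
  exact List.mem_map.mpr ⟨a ^^^ c, W0_xor ha hc, by rw [mv_xor, e1, e2, mv_xor, mv_xor]⟩

namespace Ctx

variable {z : G} {P : Subgroup G} (C : Ctx z P)

include C

/-- The pure subgroup of order eight. -/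
def Z8 : Subgroup G where
  carrier := {q | q ∈ C.E ∧ C.π q ∈ zC}
  one_mem' := ⟨one_mem _, by rw [C.π_one]; decide⟩
  mul_mem' := by
    rintro a b ⟨ha, ha'⟩ ⟨hb, hb'⟩
    exact ⟨mul_mem ha hb, by rw [C.π_mul a ha b hb]; exact zC_xor ha' hb'⟩
  inv_mem' := by
    rintro a ⟨ha, ha'⟩
    exact ⟨inv_mem ha, by rwa [C.π_inv ha]⟩

theorem mem_Z8 {q : G} : q ∈ C.Z8 ↔ q ∈ C.E ∧ C.π q ∈ zC := Iff.rfl

theorem z_mem_Z8 : z ∈ C.Z8 := ⟨C.X.mem, by rw [(C.π_zero z C.X.mem).mpr (Or.inr rfl)]; decide⟩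

theorem card_Z8 : Nat.card ↥C.Z8 = 8 := by
  rw [← SetLike.coe_sort_coe, Nat.card_coe_set_eq]
  exact (C.lifts_ncard zC_facts.2.1 fun x hx => (W0_spec (zC_W0 hx)).1).trans rfl

theorem Z8_le_Wt {q : G} (hq : q ∈ C.Z8) : q ∈ C.Wt := ⟨hq.1, zC_W0 hq.2⟩

theorem Z8_le_V : C.Z8 ≤ C.V := fun _ hq => C.Wt_le_V (C.Z8_le_Wt hq)

theorem centralizer_Z8_le : centralizer (C.Z8 : Set G) ≤ centralizer ({z} : Set G) := fun _ hg =>
  mem_centralizer_singleton_iff.mpr ((mem_centralizer_iff.mp hg z C.z_mem_Z8).symm)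

theorem Z8_pure [IsSimpleGroup G] (hG : ¬ IsMulCommutative G) {q : G} (hq : q ∈ C.Z8) (h1 : q ≠ 1) :
    IsConj z q := by
  by_cases h0 : C.π q = 0
  · rcases (C.π_zero q hq.1).mp h0 with e | e
    exacts [absurd e h1, e ▸ IsConj.refl z]
  refine (C.inner_card hG).2.1 q ⟨hq.1, mem_partW.mpr ⟨zC_W0 hq.2, h0, ?_⟩⟩
  have h : ∀ x ∈ zC, x ≠ 0 → cls x = 0 := by decide +kernel
  exact h _ hq.2 h0

/-- Conjugates inside the extraspecial group of the images under the element of order three. -/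
theorem semilinear {h q : G} (hh : h ∈ centralizer ({z} : Set G)) (hq : q ∈ C.E) :
    C.π (h * (C.p * q * C.p⁻¹) * h⁻¹) = mv Data.OM (C.π (h * q * h⁻¹)) ∨
      C.π (h * (C.p * q * C.p⁻¹) * h⁻¹) = mv Data.OM (mv Data.OM (C.π (h * q * h⁻¹))) := by
  obtain ⟨e, he, m, hm, rfl⟩ := C.NE h hh
  have hmH : m ∈ centralizer ({z} : Set G) := by simpa using mul_mem (inv_mem (C.le he)) hh
  have hconj : ∀ x ∈ C.E, C.π (e * x * e⁻¹) = C.π x := fun x hx => by
    rw [C.rep_E he x hx, mv_idM (C.π_lt x)]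
  have hmq := C.conj_mem hmH hq
  rw [show e * m * q * (e * m)⁻¹ = e * (m * q * m⁻¹) * e⁻¹ by group, hconj _ hmq,
    show e * m * (C.p * q * C.p⁻¹) * (e * m)⁻¹ = e * ((m * C.p * m⁻¹) * (m * q * m⁻¹) * (m * C.p * m⁻¹)⁻¹) * e⁻¹ by group]
  rcases C.deg m hmH hm with d | d <;> rw [d]
  · exact Or.inl (by rw [hconj _ (C.conj_mem C.pH hmq), C.rep_p _ hmq])
  · refine Or.inr ?_
    have h3 : C.p ^ 3 = 1 := C.ord ▸ pow_orderOf_eq_one C.p
    have hi : C.p⁻¹ = C.p * C.p := inv_eq_of_mul_eq_one_right (by rw [← mul_assoc, ← pow_two, ← pow_succ, h3])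
    have hp := C.conj_mem C.pH hmq
    rw [hi, show C.p * C.p * (m * q * m⁻¹) * (C.p * C.p)⁻¹ = C.p * (C.p * (m * q * m⁻¹) * C.p⁻¹) * C.p⁻¹ by group,
      hconj _ (C.conj_mem C.pH hp), C.rep_p _ hp, C.rep_p _ hmq]

/-- The images in the quotient of the pure pair. -/
theorem exists_pair : ∃ v w : G, v ∈ C.Z8 ∧ w ∈ C.Z8 ∧ C.π v = 21 ∧ C.π w = 42 ∧ C.p * v * C.p⁻¹ = w := by
  obtain ⟨v, hv, e⟩ := C.π_surj 21 (by norm_num)
  have hw := C.conj_mem C.pH hv
  have ew : C.π (C.p * v * C.p⁻¹) = 42 := by rw [C.rep_p v hv, e, zC_facts.2.2.2.2.1]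
  exact ⟨v, C.p * v * C.p⁻¹, ⟨hv, e ▸ by decide⟩, ⟨hw, ew ▸ by decide⟩, e, ew, rfl⟩

theorem mem_centralizer_Z8 {v w k : G} (hv : v ∈ C.E) (hv' : C.π v = 21) (hw : w ∈ C.E) (hw' : C.π w = 42)
    (hk : k ∈ centralizer ({z} : Set G)) (h1 : Commute k v) (h2 : Commute k w) : k ∈ centralizer (C.Z8 : Set G) := by
  refine mem_centralizer_iff.mpr fun q hq => ?_
  have hz : Commute k z := C.z_comm hk
  have key : ∀ x ∈ C.E, C.π q = C.π x → Commute k x → q * k = k * q := fun x hx e hc => by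
    rcases C.π_eq hq.1 hx e with r | r <;> rw [r]
    · exact hc.eq.symm
    · exact (hz.mul_right hc).eq.symm
  have hq' := hq.2
  simp only [zC, List.mem_cons, List.not_mem_nil, or_false] at hq'
  rcases hq' with e | e | e | e
  · exact key 1 (one_mem _) (e.trans C.π_one.symm) (Commute.one_right k)
  · exact key v hv (e.trans hv'.symm) h1
  · exact key w hw (e.trans hw'.symm) h2
  · exact key (v * w) (mul_mem hv hw) (e.trans (by rw [C.π_mul v hv w hw, hv', hw']; rfl)) (h1.mul_right h2)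

theorem card_centralizer_Z8 [IsSimpleGroup G] (hG : ¬ IsMulCommutative G) :
    Nat.card ↥(centralizer (C.Z8 : Set G)) = 2 ^ 18 * 15 := by
  classical
  obtain ⟨v, w, ⟨hvE, hv0⟩, ⟨hwE, hw0⟩, hv, hw, hpw⟩ := C.exists_pair
  have hc21 := zC_facts.2.2.1
  -- the orbit of the first
  have horb : {x | ∃ h ∈ centralizer ({z} : Set G), h * v * h⁻¹ = x} = C.liftsOf cl0 := by
    obtain ⟨p1, hp1⟩ : ∃ x, x ∈ partW 1 := ⟨_, part_nonempty.2⟩
    obtain ⟨b, hbE, hb⟩ := C.π_surj p1 (W0_spec (mem_partW.mp hp1).1).1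
    obtain ⟨-, hb0, hb1⟩ := mem_partW.mp hp1
    have hzv : IsConj z v := C.Z8_pure hG ⟨hvE, hv0⟩ fun e => by rw [e, C.π_one] at hv; omega
    ext x
    constructor
    · rintro ⟨h, hh, rfl⟩
      have hx := C.conj_mem hh hvE
      have hx0 : C.π (h * v * h⁻¹) ≠ 0 := fun e => by
        rcases (C.π_zero _ hx).mp e with r | r
        · rw [conj_eq_one_iff.mp r, C.π_one] at hv; omega
        · rw [show v = h⁻¹ * (h * v * h⁻¹) * h by group, r, (C.z_comm (inv_mem hh)).eq, inv_mul_cancel_right,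
            (C.π_zero z C.X.mem).mpr (Or.inr rfl)] at hv
          omega
      have hxq : qB (C.π (h * v * h⁻¹)) = false := by
        rw [← C.π_sq _ hx, conj_mul, (C.π_sq v hvE).mpr (W0_spec (zC_W0 hv0)).2.1]; group
      refine ⟨hx, mem_cl0.mpr ⟨C.π_lt _, hx0, hxq, (cls_two _).resolve_right fun hc => ?_⟩⟩
      exact (C.inner_card hG).2.2 b ⟨hbE, hb ▸ hp1⟩ ((hzv.trans (isConj_iff.mpr ⟨h, rfl⟩)).trans
        (C.conj_cls hx hbE hx0 (hb ▸ hb0) hxq (hb ▸ (W0_spec (mem_partW.mp hp1).1).2.1) (by rw [hc, hb, hb1])))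
    · rintro ⟨hxE, hx⟩
      obtain ⟨-, hx0, hxq, hxc⟩ := mem_cl0.mp hx
      exact C.conj_cls_H hvE hxE (by omega) hx0 (W0_spec (zC_W0 hv0)).2.1 hxq (by rw [hv, hc21, hxc])
  have e1 := orbit_card (centralizer ({z} : Set G)) v
  rw [horb, C.lifts_ncard (l := cl0) (List.nodup_range.filter _) (fun x hx => (mem_cl0.mp hx).1), cl0_count, C.cardH] at e1
  -- the orbit of the second
  set K := centralizer ({z} : Set G) ⊓ centralizer ({v} : Set G) with hK
  have hKv : ∀ k ∈ K, k * v * k⁻¹ = v := fun k hk => by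
    rw [mem_centralizer_singleton_iff.mp (mem_inf.mp hk).2, mul_inv_cancel_right]
  obtain ⟨es, hes, hesπ⟩ := C.π_surj 192 (by norm_num)
  obtain ⟨ev, hev, hevπ⟩ := C.π_surj 64 (by norm_num)
  obtain ⟨s1, s2, s3, s4⟩ := sign_ok
  have hesK : es ∈ K := mem_inf.mpr ⟨C.le hes, mem_centralizer_singleton_iff.mpr
    ((C.π_comm es hes v hvE).mpr (by rw [hesπ, hv, s3])).eq⟩
  have heszq : ∀ q ∈ C.E, pB 192 (C.π q) = true → es * q * es⁻¹ = z * q := fun q hq e => by
    rw [C.conjB hes hq, hesπ, e, if_pos rfl]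
  have horb2 : {x | ∃ k ∈ K, k * w * k⁻¹ = x} = C.liftsOf [42, 63] := by
    ext x
    constructor
    · rintro ⟨k, hk, rfl⟩
      have hkH := (mem_inf.mp hk).1
      refine ⟨C.conj_mem hkH hwE, ?_⟩
      have := C.semilinear hkH hvE
      rw [hpw, hKv k hk, hv, zC_facts.2.2.2.2.1, zC_facts.2.2.2.2.2.1] at this
      simpa using this
    · rintro ⟨hxE, hx⟩
      obtain ⟨fw, f21, f42⟩ := flip_ok
      obtain ⟨g, hgH, hgr⟩ := C.exists_word wordV fun i hi => by
        simpa using List.all_eq_true.mp fw i hi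
      -- an element fixing the first and moving the second into the other code
      obtain ⟨g', hg'K, hg'⟩ : ∃ g' ∈ K, C.π (g' * w * g'⁻¹) = 63 := by
        have e : C.π (g * v * g⁻¹) = C.π v := by rw [hgr v hvE, hv, f21]
        have e42 : C.π (g * w * g⁻¹) = 63 := by rw [hgr w hwE, hw, f42]
        rcases C.π_eq (C.conj_mem hgH hvE) hvE e with r | r
        · exact ⟨g, mem_inf.mpr ⟨hgH, mem_centralizer_singleton_iff.mpr (mul_inv_eq_iff_eq_mul.mp r)⟩, e42⟩
        · refine ⟨ev * g, mem_inf.mpr ⟨mul_mem (C.le hev) hgH, mem_centralizer_singleton_iff.mpr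
            (mul_inv_eq_iff_eq_mul.mp ?_)⟩, ?_⟩
          · rw [show ev * g * v * (ev * g)⁻¹ = ev * (g * v * g⁻¹) * ev⁻¹ by group, r,
              show ev * (z * v) * ev⁻¹ = (ev * z * ev⁻¹) * (ev * v * ev⁻¹) by group, (C.z_comm (C.le hev)).eq,
              mul_inv_cancel_right, C.conjB hev hvE, hevπ, hv, s1, if_pos rfl, ← mul_assoc, C.X.zz, one_mul]
          · rw [show ev * g * w * (ev * g)⁻¹ = ev * (g * w * g⁻¹) * ev⁻¹ by group,
              C.rep_E hev _ (C.conj_mem hgH hwE), mv_idM (C.π_lt _), e42]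
      have hsign : ∀ k ∈ K, C.π (k * w * k⁻¹) = C.π x → pB 192 (C.π x) = true → ∃ k' ∈ K, k' * w * k'⁻¹ = x := by
        intro k hk e hb
        rcases C.π_eq hxE (C.conj_mem (mem_inf.mp hk).1 hwE) e.symm with r | r
        · exact ⟨k, hk, r.symm⟩
        · refine ⟨es * k, mul_mem hesK hk, ?_⟩
          rw [show es * k * w * (es * k)⁻¹ = es * (k * w * k⁻¹) * es⁻¹ by group,
            heszq _ (C.conj_mem (mem_inf.mp hk).1 hwE) (by rw [e, hb]), r]
      simp only [List.mem_cons, List.not_mem_nil, or_false] at hx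
      rcases hx with e | e
      · exact hsign 1 (one_mem _) (by rw [e]; simpa using hw) (by rw [e, s4])
      · exact hsign g' hg'K (by rw [e, hg']) (by rw [e, show (63 : ℕ) = 21 ^^^ 42 from rfl, pB_xor_right, s3, s4]; rfl)
  have e2 := orbit_card K w
  rw [horb2, C.lifts_ncard (by decide) (by decide)] at e2
  have hCK : centralizer (C.Z8 : Set G) = K ⊓ centralizer ({w} : Set G) := by
    ext g
    constructor
    · intro hg
      exact mem_inf.mpr ⟨mem_inf.mpr ⟨C.centralizer_Z8_le hg,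
        mem_centralizer_singleton_iff.mpr (mem_centralizer_iff.mp hg v ⟨hvE, hv0⟩).symm⟩,
        mem_centralizer_singleton_iff.mpr (mem_centralizer_iff.mp hg w ⟨hwE, hw0⟩).symm⟩
    · intro hg
      obtain ⟨⟨g1, g2⟩, g3⟩ := hg
      exact C.mem_centralizer_Z8 hvE hv hwE hw g1 (mem_centralizer_singleton_iff.mp g2)
        (mem_centralizer_singleton_iff.mp g3)
  rw [hCK]
  simp only [List.length_cons, List.length_nil] at e2
  omega

/-- An image of the distinguished space as a set. -/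
def imSet (j : ℕ) : Set G := C.liftsOf (imW j)

theorem imSet_ncard {j : ℕ} (hj : j < 77) : (C.imSet j).ncard = 128 := by
  have h := List.all_eq_true.mp imW_nodup j (List.mem_range.mpr hj)
  simp only [Bool.and_eq_true, decide_eq_true_eq] at h
  have hl : (imW j).length = 64 := by rw [imW, List.length_map, W0_facts.2.2.1]
  rw [imSet, C.lifts_ncard h.1 (fun x hx => imW_lt hx hj), hl]

theorem imSet_map {k : G} (hk : k ∈ centralizer ({z} : Set G)) {M : List ℕ} (hr : RepBy C.E C.π k M) {i j : ℕ}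
    (h : ∀ b ∈ w0B, mv M (mv (wM gens5 (imgC.getD i [])) b) ∈ imW j) {q : G} (hq : q ∈ C.imSet i) :
    k * q * k⁻¹ ∈ C.imSet j :=
  ⟨C.conj_mem hk hq.1, by rw [hr q hq.1]; exact span_image h hq.2⟩

/-- The centraliser of the involution permutes the images of the distinguished space. -/
theorem imSet_permuted {h : G} (hh : h ∈ centralizer ({z} : Set G)) :
    ∀ i < 77, ∃ j < 77, ∀ q ∈ C.imSet i, h * q * h⁻¹ ∈ C.imSet j := by
  classical
  let R : G → Prop := fun h => ∀ i < 77, ∃ j < 77, ∀ q ∈ C.imSet i, h * q * h⁻¹ ∈ C.imSet j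
  let S : Submonoid G :=
    { carrier := {h | h ∈ centralizer ({z} : Set G) ∧ R h}
      one_mem' := ⟨one_mem _, fun i hi => ⟨i, hi, fun q hq => by simpa using hq⟩⟩
      mul_mem' := by
        rintro a b ⟨ha, ha'⟩ ⟨hb, hb'⟩
        refine ⟨mul_mem ha hb, fun i hi => ?_⟩
        obtain ⟨j, hj, hij⟩ := hb' i hi
        obtain ⟨k, hk, hjk⟩ := ha' j hj
        refine ⟨k, hk, fun q hq => ?_⟩
        rw [show a * b * q * (a * b)⁻¹ = a * (b * q * b⁻¹) * a⁻¹ by group]
        exact hjk _ (hij q hq) }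
  let S' : Subgroup G :=
    { S with
      inv_mem' := fun {a} ha => by
        obtain ⟨n, hn⟩ : ∃ n : ℕ, a⁻¹ = a ^ n :=
          ⟨orderOf a - 1, inv_eq_of_mul_eq_one_right (by
            rw [← pow_succ', Nat.sub_add_cancel (orderOf_pos a), pow_orderOf_eq_one])⟩
        show a⁻¹ ∈ S
        rw [hn]
        exact pow_mem ha n }
  have hgen : ∀ g < 5, ∀ x ∈ centralizer ({z} : Set G), RepBy C.E C.π x (gens5.getD g idM) → x ∈ S' := by
    intro g hg x hx hr
    refine ⟨hx, fun i hi => ?_⟩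
    have h := List.all_eq_true.mp (List.all_eq_true.mp move_ok g (List.mem_range.mpr hg)) i (List.mem_range.mpr hi)
    simp only [Bool.and_eq_true, decide_eq_true_eq, List.all_eq_true, List.contains_iff_mem] at h
    exact ⟨_, h.1, fun q hq => C.imSet_map hx hr h.2 hq⟩
  have hE : C.E ≤ S' := fun e he => ⟨C.le he, fun i hi => ⟨i, hi, fun q hq =>
    ⟨C.conj_mem (C.le he) hq.1, by rw [C.rep_E he q hq.1, mv_idM (C.π_lt q)]; exact hq.2⟩⟩⟩
  obtain ⟨ha, hb, hc, ht⟩ := C.memH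
  have hcl : Subgroup.closure ({C.p, C.ga, C.gb, C.gc, C.gt} : Set G) ≤ S' := by
    rw [closure_le]
    rintro x (rfl | rfl | rfl | rfl | rfl)
    exacts [hgen 4 (by norm_num) _ C.pH C.rep_p, hgen 0 (by norm_num) _ ha C.rep_a, hgen 1 (by norm_num) _ hb C.rep_b,
      hgen 2 (by norm_num) _ hc C.rep_c, hgen 3 (by norm_num) _ ht C.rep_t]
  exact ((sup_le hE hcl) (C.gen hh)).2

/-- The permutation of the five images. -/
theorem exists_five_perm [IsSimpleGroup G] (hG : ¬ IsMulCommutative G) :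
    ∃ β : ↥(centralizer (C.Z8 : Set G)) →* Equiv.Perm (Fin 5), Function.Surjective β ∧
      Nat.card ↥β.ker = 2 ^ 15 ∧ ∀ e : ↥(centralizer (C.Z8 : Set G)), (e : G) ∈ C.E → β e = 1 := by
  classical
  obtain ⟨f77, f21, fdist⟩ := five_ok
  simp only [List.all_eq_true, List.mem_range, Bool.or_eq_true, Bool.not_eq_true', List.contains_iff_mem,
    Bool.and_eq_true, decide_eq_true_eq] at f77 f21
  let j : Fin 5 → ℕ := fun i => fiveC.getD i.val 0
  have hjm : ∀ i, j i ∈ fiveC := fun i => by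
    show fiveC.getD i.val 0 ∈ fiveC
    rw [List.getD_eq_getElem _ _ (show i.val < fiveC.length from i.2)]
    exact List.getElem_mem _
  have hj : ∀ i, 21 ∈ imW (j i) ∧ j i < 77 := fun i => f21 _ (hjm i)
  let s : Fin 5 → Set G := fun i => C.imSet (j i)
  have hs : Function.Injective s := by
    intro i k e
    by_contra hik
    have h := List.all_eq_true.mp (List.all_eq_true.mp fdist i.val (List.mem_range.mpr i.2)) k.val (List.mem_range.mpr k.2)
    simp only [Bool.or_eq_true, beq_iff_eq, List.any_eq_true, Bool.not_eq_true', List.contains_eq_mem,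
      decide_eq_false_iff_not] at h
    obtain ⟨x, hx, hx'⟩ := h.resolve_left fun r => hik (Fin.ext r)
    obtain ⟨q, hq, hqx⟩ := C.π_surj x (imW_lt hx (hj i).2)
    have : q ∈ s k := e ▸ (⟨hq, hqx.symm ▸ hx⟩ : q ∈ s i)
    exact hx' (hqx ▸ this.2)
  obtain ⟨v, w, ⟨hvE, hv0⟩, ⟨hwE, hw0⟩, hv, hw, -⟩ := C.exists_pair
  have hfull : ∀ h ∈ centralizer ({z} : Set G), ∀ i k, (∀ q ∈ s i, h * q * h⁻¹ ∈ s k) →
      (fun q => h * q * h⁻¹) '' s i = s k := fun h _ i k hik =>
    Set.eq_of_subset_of_ncard_le (Set.image_subset_iff.mpr hik) (by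
      rw [Set.ncard_image_of_injective _ fun x y e => by simpa using e, C.imSet_ncard (hj i).2, C.imSet_ncard (hj k).2])
      (Set.toFinite _)
  have hex : ∀ (h : ↥(centralizer (C.Z8 : Set G))) (i : Fin 5), ∃ k, (fun q => (h : G) * q * (h : G)⁻¹) '' s i = s k := by
    intro h i
    have hh := C.centralizer_Z8_le h.2
    obtain ⟨m, hm, him⟩ := C.imSet_permuted hh (j i) (hj i).2
    have hvm := him v ⟨hvE, hv.symm ▸ (hj i).1⟩
    rw [(mem_centralizer_iff.mp h.2 v ⟨hvE, hv0⟩).symm, mul_inv_cancel_right] at hvm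
    have hm5 : m ∈ fiveC := (f77 m hm).resolve_left fun r => by
      have h21 : 21 ∈ imW m := hv ▸ hvm.2
      simp [h21] at r
    obtain ⟨k, hk, e⟩ := List.getElem_of_mem hm5
    refine ⟨⟨k, hk⟩, hfull _ hh i _ fun q hq => ?_⟩
    show _ ∈ C.imSet (fiveC.getD k 0)
    rw [List.getD_eq_getElem _ _ hk, e]
    exact him q hq
  choose σ hσ using hex
  have hσ1 : ∀ i, σ 1 i = i := fun i => hs ((hσ 1 i).symm.trans (by simp))
  have hσm : ∀ a b i, σ (a * b) i = σ a (σ b i) := fun a b i => by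
    refine hs ((hσ (a * b) i).symm.trans ?_)
    rw [← hσ a (σ b i), ← hσ b i, Set.image_image]
    exact Set.image_congr fun q _ => by simp only [Subgroup.coe_mul]; group
  let toPerm : ↥(centralizer (C.Z8 : Set G)) → Equiv.Perm (Fin 5) := fun a =>
    { toFun := σ a
      invFun := σ a⁻¹
      left_inv := fun i => by rw [← hσm, inv_mul_cancel, hσ1]
      right_inv := fun i => by rw [← hσm, mul_inv_cancel, hσ1] }
  let β : ↥(centralizer (C.Z8 : Set G)) →* Equiv.Perm (Fin 5) :=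
    { toFun := toPerm
      map_one' := Equiv.ext hσ1
      map_mul' := fun a b => Equiv.ext (hσm a b) }
  have hβ : ∀ (a : ↥(centralizer (C.Z8 : Set G))) (i k : Fin 5), (∀ q ∈ s i, (a : G) * q * (a : G)⁻¹ ∈ s k) → β a i = k := fun a i k hik =>
    hs ((hσ a i).symm.trans (hfull _ (C.centralizer_Z8_le a.2) i k hik))
  have hEker : ∀ e : ↥(centralizer (C.Z8 : Set G)), (e : G) ∈ C.E → β e = 1 := fun e he =>
    Equiv.ext fun i => hβ e i i fun q hq => ⟨C.conj_mem (C.le he) hq.1, by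
      rw [C.rep_E he q hq.1, mv_idM (C.π_lt q)]; exact hq.2⟩
  obtain ⟨s1, s2, s3, s4⟩ := sign_ok
  -- the two words, lifted to the centraliser
  have hword : ∀ (wd p : List ℕ), permOK wd p = true → ∃ k : ↥(centralizer (C.Z8 : Set G)),
      ∀ i : Fin 5, ∀ h : p.getD i.val 0 < 5, β k i = ⟨p.getD i.val 0, h⟩ := by
    intro wd p hp
    simp only [permOK, Bool.and_eq_true, List.all_eq_true, decide_eq_true_eq, beq_iff_eq, List.mem_range,
      List.contains_iff_mem] at hp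
    obtain ⟨hw5, ⟨h21, h42⟩, hperm⟩ := hp
    obtain ⟨g, hg, hr⟩ := C.exists_word wd hw5
    have e1 : C.π (g * v * g⁻¹) = C.π v := by rw [hr v hvE, hv, h21]
    have e2 : C.π (g * w * g⁻¹) = C.π w := by rw [hr w hwE, hw, h42]
    -- correction of the signs inside the extraspecial group
    obtain ⟨x, hxE, hxv, hxw⟩ : ∃ x ∈ C.E, x * (g * v * g⁻¹) * x⁻¹ = v ∧ x * (g * w * g⁻¹) * x⁻¹ = w := by
      obtain ⟨ev, hev, hevπ⟩ := C.π_surj 64 (by norm_num)
      obtain ⟨ew, hew, hewπ⟩ := C.π_surj 192 (by norm_num)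
      have hsw : ∀ x ∈ C.E, ∀ q ∈ C.E, pB (C.π x) (C.π q) = true → x * (z * q) * x⁻¹ = q := fun x hx q hq e => by
        rw [show x * (z * q) * x⁻¹ = (x * z * x⁻¹) * (x * q * x⁻¹) by group, (C.z_comm (C.le hx)).eq,
          mul_inv_cancel_right, C.conjB hx hq, e, if_pos rfl, ← mul_assoc, C.X.zz, one_mul]
      have hfx : ∀ x ∈ C.E, ∀ q ∈ C.E, pB (C.π x) (C.π q) = false → x * q * x⁻¹ = q := fun x hx q hq e => by
        rw [C.conjB hx hq, e, if_neg Bool.false_ne_true, one_mul]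
      rcases C.π_eq (C.conj_mem hg hvE) hvE e1 with r | r <;> rcases C.π_eq (C.conj_mem hg hwE) hwE e2 with r' | r' <;>
        rw [r, r']
      · exact ⟨1, one_mem _, by simp, by simp⟩
      · exact ⟨ew, hew, hfx _ hew _ hvE (by rw [hewπ, hv, s3]), hsw _ hew _ hwE (by rw [hewπ, hw, s4])⟩
      · exact ⟨ev, hev, hsw _ hev _ hvE (by rw [hevπ, hv, s1]), hfx _ hev _ hwE (by rw [hevπ, hw, s2])⟩
      · refine ⟨ev * ew, mul_mem hev hew, hsw _ (mul_mem hev hew) _ hvE ?_, hsw _ (mul_mem hev hew) _ hwE ?_⟩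
        · rw [C.π_mul _ hev _ hew, hevπ, hewπ, hv, pB_xor_left, s1, s3]; rfl
        · rw [C.π_mul _ hev _ hew, hevπ, hewπ, hw, pB_xor_left, s2, s4]; rfl
    have hxg : x * g ∈ centralizer ({z} : Set G) := mul_mem (C.le hxE) hg
    refine ⟨⟨x * g, C.mem_centralizer_Z8 hvE hv hwE hw hxg (mul_inv_eq_iff_eq_mul.mp ?_)
      (mul_inv_eq_iff_eq_mul.mp ?_)⟩, fun i h => ?_⟩
    · rw [show x * g * v * (x * g)⁻¹ = x * (g * v * g⁻¹) * x⁻¹ by group, hxv]
    · rw [show x * g * w * (x * g)⁻¹ = x * (g * w * g⁻¹) * x⁻¹ by group, hxw]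
    refine hβ ⟨x * g, _⟩ i ⟨_, h⟩ fun q hq => ?_
    refine C.imSet_map hxg (M := wM gens5 wd) (fun q hq => ?_) (hperm i.val i.2) hq
    show C.π (x * g * q * (x * g)⁻¹) = _
    rw [show x * g * q * (x * g)⁻¹ = x * (g * q * g⁻¹) * x⁻¹ by group, C.rep_E hxE _ (C.conj_mem hg hq),
      mv_idM (C.π_lt _), hr q hq]
  have hsurj : Function.Surjective β := by
    rw [← MonoidHom.range_eq_top, eq_top_iff]
    obtain ⟨a, ha⟩ := hword _ _ perm_ok.1
    obtain ⟨b, hb⟩ := hword _ _ perm_ok.2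
    let c : Equiv.Perm (Fin 5) := ⟨![2, 4, 1, 0, 3], ![3, 2, 0, 4, 1], by decide, by decide⟩
    have hc : β b = c := Equiv.ext fun i => by
      fin_cases i <;> exact hb _ (by decide)
    have ht : β a = Equiv.swap 0 2 := Equiv.ext fun i => by
      fin_cases i <;> exact ha _ (by decide)
    haveI : Fact (Nat.Prime 5) := ⟨Nat.prime_five⟩
    have ho : orderOf c = 5 := orderOf_eq_prime (by decide) (by decide)
    have hcyc : c.IsCycle := Equiv.Perm.isCycle_of_prime_order' (ho.symm ▸ Nat.prime_five) (by rw [ho]; simp)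
    rw [← Equiv.Perm.closure_prime_cycle_swap (by simp; exact Nat.prime_five) hcyc (by decide)
      (⟨0, 2, by decide, rfl⟩ : (Equiv.swap (0 : Fin 5) 2).IsSwap), closure_le]
    rintro x (rfl | rfl)
    exacts [⟨b, hc⟩, ⟨a, ht⟩]
  refine ⟨β, hsurj, ?_, hEker⟩
  have h := β.ker.card_mul_index
  rw [index_ker, MonoidHom.range_eq_top.mpr hsurj, card_top, C.card_centralizer_Z8 hG, Nat.card_perm,
    Nat.card_fin] at h
  simp only [Nat.factorial] at h
  omega

end Ctx

end Cfsg.Lib.JankoFour
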