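import Cfsg.Agent.JankoFour.CentralT

/-!
Finite checks for the centraliser of a pure subgroup of order eight: the five images of the distinguished space
through it, two words permuting them, and the choices for the subgroup of the trio.
-/

set_option autoImplicit false
set_option maxRecDepth 100000

namespace Cfsg.Lib.JankoFour.ThreeTwelve

open Data (W0 w0B imgC)

/-- The codes of the subgroup of order eight. -/
def zC : List ℕ := [0, 21, 42, 63]

/-- The images of the distinguished space through the subgroup of order eight. -/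
def fiveC : List ℕ := [0, 5, 21, 42, 51]

/-- The permutations of the images of the distinguished space by the standard generators. -/
def moveT : List (List ℕ) := [
  [1, 2, 3, 23, 50, 56, 39, 72, 4, 28, 73, 70, 5, 60, 69, 46, 43, 6, 64, 75, 57, 49, 7, 8, 9, 58, 47, 67, 0, 33, 48, 26, 55, 10, 54, 40, 11, 53, 30, 68, 41, 12, 13, 14, 66, 15, 62, 61, 37, 51, 24, 45, 65, 16, 76, 29, 25, 63, 34, 27, 17, 18, 74, 32, 19, 38, 20, 42, 71, 52, 31, 59, 21, 44, 22, 36, 35],
  [0, 23, 24, 1, 2, 76, 64, 60, 9, 3, 62, 16, 25, 18, 10, 6, 66, 26, 14, 53, 21, 67, 27, 8, 28, 58, 43, 61, 50, 7, 29, 48, 49, 51, 5, 56, 30, 63, 57, 11, 54, 41, 31, 32, 45, 42, 59, 65, 44, 17, 4, 71, 55, 33, 34, 46, 12, 15, 35, 70, 36, 37, 13, 22, 38, 73, 74, 75, 47, 20, 52, 19, 68, 72, 39, 69, 40],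
  [41, 42, 43, 44, 17, 61, 14, 71, 45, 31, 16, 46, 47, 11, 39, 13, 70, 24, 66, 7, 20, 67, 34, 48, 49, 73, 50, 76, 26, 33, 19, 23, 28, 29, 22, 65, 51, 5, 18, 52, 27, 0, 3, 2, 1, 8, 15, 25, 9, 4, 32, 60, 6, 36, 37, 38, 72, 10, 68, 64, 53, 54, 74, 40, 62, 35, 55, 69, 56, 75, 57, 30, 58, 12, 59, 21, 63],
  [60, 61, 62, 47, 46, 13, 51, 52, 63, 17, 36, 2, 64, 65, 55, 30, 40, 66, 67, 39, 50, 53, 5, 68, 69, 42, 6, 7, 9, 10, 34, 70, 0, 31, 49, 59, 71, 25, 57, 8, 19, 72, 73, 28, 23, 24, 3, 26, 4, 18, 15, 43, 16, 1, 21, 12, 54, 22, 48, 33, 74, 75, 14, 35, 11, 20, 58, 38, 41, 29, 27, 45, 76, 44, 37, 56, 32],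
  [0, 1, 2, 3, 4, 5, 6, 7, 8, 9, 10, 11, 12, 13, 14, 15, 16, 17, 18, 19, 20, 21, 22, 23, 24, 25, 26, 27, 28, 29, 30, 31, 32, 33, 34, 35, 36, 37, 38, 39, 40, 41, 42, 43, 44, 45, 46, 47, 48, 49, 50, 51, 52, 53, 54, 55, 56, 57, 58, 59, 60, 61, 62, 63, 64, 65, 66, 67, 68, 69, 70, 71, 72, 73, 74, 75, 76]]

/-- An image of the distinguished space. -/
def imW (j : ℕ) : List ℕ := W0.map (mv (wM gens5 (imgC.getD j [])))

/-- The members of the first class. -/
def cl0 : List ℕ := (List.range 4096).filter fun x => x != 0 && !qB x && cls x == 0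

theorem zC_facts : (zC.all fun a => W0.contains a && (zC.all fun b => zC.contains (a ^^^ b) && !pB a b)) = true ∧
    zC.Nodup ∧ cls 21 = 0 ∧ cls 42 = 0 ∧ mv Data.OM 21 = 42 ∧ mv Data.OM 42 = 63 ∧ mv Data.OM 63 = 21 := by
  decide +kernel

theorem cl0_count : cl0.length = 693 := by decide +kernel

theorem move_ok : ((List.range 5).all fun g => (List.range 77).all fun j =>
    decide ((moveT.getD g []).getD j 0 < 77) &&
      (fun T M N => w0B.all fun b => T.contains (mv M (mv N b))) (imW ((moveT.getD g []).getD j 0))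
        (gens5.getD g idM) (wM gens5 (imgC.getD j []))) = true := by decide +kernel

theorem imW_nodup : ((List.range 77).all fun j => decide ((imW j).Nodup) && (imW j).all fun x => decide (x < 4096)) = true := by
  decide +kernel

theorem five_ok : ((List.range 77).all fun j => !(imW j).contains 21 || fiveC.contains j) = true ∧
    (fiveC.all fun j => (imW j).contains 21 && decide (j < 77)) = true ∧
    ((List.range 5).all fun i => (List.range 5).all fun k => i == k ||
      (fun T => (imW (fiveC.getD i 0)).any fun x => !T.contains x) (imW (fiveC.getD k 0))) = true := by decide +kernel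

/-- The word inducing a transposition of the five images. -/
def wordT : List ℕ := [1, 2, 0, 3, 0, 4, 3]

/-- The word inducing a five-cycle of the five images. -/
def wordF : List ℕ := [2, 0, 1, 3, 1, 3]

/-- The word interchanging two codes of the subgroup of order eight. -/
def wordV : List ℕ := [1, 0, 2, 1, 3]

/-- A word permutes the five images in a given way. -/
def permOK (w p : List ℕ) : Bool :=
  w.all (fun i => decide (i < 5)) && (fun M => mv M 21 == 21 && mv M 42 == 42 && (List.range 5).all fun i =>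
    (fun T N => w0B.all fun b => T.contains (mv M (mv N b))) (imW (fiveC.getD (p.getD i 0) 0))
      (wM gens5 (imgC.getD (fiveC.getD i 0) []))) (wM gens5 w)

theorem perm_ok : permOK wordT [2, 1, 0, 3, 4] = true ∧ permOK wordF [2, 4, 1, 0, 3] = true := by decide +kernel

theorem flip_ok : (wordV.all fun i => decide (i < 5)) = true ∧ mv (wM gens5 wordV) 21 = 21 ∧
    mv (wM gens5 wordV) 42 = 63 := by decide +kernel

theorem sign_ok : pB 64 21 = true ∧ pB 64 42 = false ∧ pB 192 21 = false ∧ pB 192 42 = true := by decide +kernel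

/-- In a pure line of the distinguished space either some member of the second class is moved inside it by two
members, or the line is invariant under the scalar. -/
theorem pure_lines : ((partW 0).all fun a => (partW 0).all fun b => a == b || !(partW 0).contains (a ^^^ b) ||
    ((partW 1).any fun t => (partW 1).contains (t ^^^ a) && (partW 1).contains (t ^^^ b)) ||
    b == mv Data.OM a || b == mv Data.OM (mv Data.OM a)) = true := by decide +kernel

end Cfsg.Lib.JankoFour.ThreeTwelve
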