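import Cfsg.Agent.JankoFour.ThreeTwelve.Trio
import Cfsg.Agent.JankoFour.ThreeTwelve.Generic

/-!
The normaliser of the pure subgroup of order eight is an extension of a special group of order two to the fifteenth by
the product of the symmetric group of degree five and the linear group of degree three.
-/

set_option autoImplicit false
set_option maxRecDepth 100000
set_option maxHeartbeats 2000000
set_option linter.style.haveILetI false
set_option linter.unusedSectionVars false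

namespace Cfsg.Lib.JankoFour

open Subgroup
open ThreeTwelve
open Cfsg.Lib.LargeFischer (L32 card_L32 simple_L32)

universe u

variable {G : Type u} [Group G] [Finite G]

theorem ThreeTwelve.perp_ok : pB 1 21 = false ∧ pB 1 42 = false ∧ pB 2 21 = false ∧ pB 2 42 = false ∧ pB 1 2 = true := by
  decide +kernel

namespace Ctx

variable {z : G} {P : Subgroup G} (C : Ctx z P)

include C

/-- The coordinates of the normaliser of the subgroup of order eight. -/
theorem exists_projection [IsSimpleGroup G] (hG : ¬ IsMulCommutative G) :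
    ∃ (Φ : ↥(normalizer (C.Z8 : Set G)) →* Equiv.Perm (Fin 5) × L32) (F : L32 →* ↥(normalizer (C.Z8 : Set G))),
      Function.Surjective Φ ∧ Function.Injective F ∧ (∀ s, Φ (F s) = (1, s)) ∧ Nat.card ↥Φ.ker = 2 ^ 15 ∧
      (∀ g : ↥(normalizer (C.Z8 : Set G)), (Φ g).2 = 1 ↔ (g : G) ∈ centralizer (C.Z8 : Set G)) ∧
      ∀ g : ↥(normalizer (C.Z8 : Set G)), (g : G) ∈ centralizer (C.Z8 : Set G) → (g : G) ∈ C.E → g ∈ Φ.ker := by
  classical
  set M := normalizer (C.Z8 : Set G) with hM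
  set Cz := centralizer (C.Z8 : Set G) with hCz
  obtain ⟨F0, hF0, hF0M, hF0C⟩ : ∃ F : L32 →* G, Function.Injective F ∧ (∀ s, F s ∈ M) ∧ ∀ s, F s ∈ Cz → s = 1 :=
    C.exists_linear_Z8 hG
  obtain ⟨β, hβ, hker, hEker⟩ : ∃ β : ↥Cz →* Equiv.Perm (Fin 5), Function.Surjective β ∧
      Nat.card ↥β.ker = 2 ^ 15 ∧ ∀ e : ↥Cz, (e : G) ∈ C.E → β e = 1 := C.exists_five_perm hG
  have hCM : Cz ≤ M := centralizer_le_normalizer _
  let CM : Subgroup ↥M := Cz.subgroupOf M
  haveI hn : CM.Normal := ⟨fun n hn g => by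
    refine mem_subgroupOf.mpr (mem_centralizer_iff.mpr fun q hq => ?_)
    have h1 := mem_centralizer_iff.mp (mem_subgroupOf.mp hn) _ ((mem_normalizer_iff.mp (inv_mem g.2) q).mp hq)
    simp only [Subgroup.coe_mul, Subgroup.coe_inv, inv_inv] at h1 ⊢
    calc q * ((g : G) * n * (g : G)⁻¹) = (g : G) * (((g : G)⁻¹ * q * g) * n) * (g : G)⁻¹ := by group
      _ = (g : G) * ((n : G) * ((g : G)⁻¹ * q * g)) * (g : G)⁻¹ := by rw [h1]
      _ = (g : G) * n * (g : G)⁻¹ * q := by group⟩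
  let F : L32 →* ↥M := F0.codRestrict M hF0M
  let q0 : L32 →* ↥M ⧸ CM := (QuotientGroup.mk' CM).comp F
  have hq0i : Function.Injective q0 := (injective_iff_map_eq_one _).mpr fun s hs =>
    hF0C s (mem_subgroupOf.mp ((QuotientGroup.eq_one_iff _).mp hs))
  have hq0 : Function.Bijective q0 := by
    refine hq0i.bijective_of_nat_card_le ?_
    have h := C.card_normalizer_Z8_le
    rw [← hM, ← hCz, ← CM.card_mul_index, Nat.card_congr (subgroupOfEquivOfLe hCM).toEquiv, mul_comm 168] at h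
    rw [card_L32]
    exact Nat.le_of_mul_le_mul_left h Nat.card_pos
  let θ : ↥M →* L32 := (MulEquiv.ofBijective q0 hq0).symm.toMonoidHom.comp (QuotientGroup.mk' CM)
  have hθF : ∀ s, θ (F s) = s := fun s => (MulEquiv.ofBijective q0 hq0).symm_apply_apply s
  have hθ1 : ∀ g : ↥M, θ g = 1 ↔ (g : G) ∈ Cz := fun g => by
    show (MulEquiv.ofBijective q0 hq0).symm (QuotientGroup.mk' CM g) = 1 ↔ _
    rw [EmbeddingLike.map_eq_one_iff, QuotientGroup.mk'_apply, QuotientGroup.eq_one_iff, mem_subgroupOf]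
  -- the kernel is invariant
  let L : Subgroup G := β.ker.map Cz.subtype
  have hLz : ∀ {g : G} (hg : g ∈ Cz), g ∈ L ↔ β ⟨g, hg⟩ = 1 := fun {g} hg =>
    ⟨fun ⟨x, hx, e⟩ => by
      have : x = ⟨g, hg⟩ := Subtype.ext e
      exact this ▸ hx, fun h => ⟨_, h, rfl⟩⟩
  have hCconj : ∀ g ∈ M, ∀ c ∈ Cz, g * c * g⁻¹ ∈ Cz := fun g hg c hc => by
    exact mem_subgroupOf.mp (hn.conj_mem ⟨c, hCM hc⟩ (mem_subgroupOf.mpr hc) ⟨g, hg⟩)
  have hLconj : ∀ g ∈ M, ∀ l ∈ L, g * l * g⁻¹ ∈ L := by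
    intro g hg
    let κ : ↥β.ker →* ↥Cz :=
      { toFun := fun x => ⟨g * ((x : ↥Cz) : G) * g⁻¹, hCconj g hg _ (x : ↥Cz).2⟩
        map_one' := Subtype.ext (by simp)
        map_mul' := fun a b => Subtype.ext (by simp only [Subgroup.coe_mul]; group) }
    have hN : ((β.comp κ).range).Normal := by
      refine ⟨fun n ⟨x, hx⟩ τ => ?_⟩
      obtain ⟨c, rfl⟩ := hβ τ
      have hc := hCconj g⁻¹ (inv_mem hg) _ c.2
      have hx' : ((⟨g⁻¹ * (c : G) * g⁻¹⁻¹, hc⟩ : ↥Cz) * (x : ↥Cz) * (⟨g⁻¹ * (c : G) * g⁻¹⁻¹, hc⟩ : ↥Cz)⁻¹) ∈ β.ker :=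
        (inferInstance : β.ker.Normal).conj_mem _ x.2 _
      refine ⟨⟨_, hx'⟩, ?_⟩
      rw [← hx, MonoidHom.comp_apply, MonoidHom.comp_apply, ← map_inv, ← map_mul, ← map_mul]
      refine congrArg β (Subtype.ext ?_)
      simp only [κ, MonoidHom.coe_mk, OneHom.coe_mk, Subgroup.coe_mul, Subgroup.coe_inv]
      group
    have hP : IsPGroup 2 ↥(β.comp κ).range :=
      (IsPGroup.of_card hker).of_surjective (β.comp κ).rangeRestrict (β.comp κ).rangeRestrict_surjective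
    haveI := hN
    have hb := normal_two_perm_five _ hP
    rintro _ ⟨x, hx, rfl⟩
    have h1 : β (κ ⟨x, hx⟩) = 1 := mem_bot.mp (hb ▸ ⟨⟨x, hx⟩, rfl⟩)
    exact (hLz (hCconj g hg _ x.2)).mpr h1
  -- the action on the quotient by the kernel
  have hwd : ∀ (g : G) (hg : g ∈ M) (c c' : ↥Cz), β c = β c' →
      β ⟨g * c * g⁻¹, hCconj g hg _ c.2⟩ = β ⟨g * c' * g⁻¹, hCconj g hg _ c'.2⟩ := by
    intro g hg c c' e
    have hl : ((c⁻¹ * c' : ↥Cz) : G) ∈ L := (hLz _).mpr (by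
      show β (c⁻¹ * c') = 1
      rw [map_mul, map_inv, e, inv_mul_cancel])
    have h1 := (hLz (hCconj g hg _ (c⁻¹ * c' : ↥Cz).2)).mp (hLconj g hg _ hl)
    have h2 : (⟨g * c' * g⁻¹, hCconj g hg _ c'.2⟩ : ↥Cz) = ⟨g * c * g⁻¹, hCconj g hg _ c.2⟩ *
        ⟨g * ((c⁻¹ * c' : ↥Cz) : G) * g⁻¹, hCconj g hg _ (c⁻¹ * c' : ↥Cz).2⟩ := Subtype.ext (by
      simp only [Subgroup.coe_mul, Subgroup.coe_inv]; group)
    rw [h2, map_mul, h1, mul_one]
  choose sec hsec using hβ
  let act : L32 → Equiv.Perm (Fin 5) → Equiv.Perm (Fin 5) := fun s x =>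
    β ⟨F0 s * sec x * (F0 s)⁻¹, hCconj _ (hF0M s) _ (sec x).2⟩
  have hact : ∀ s (c : ↥Cz), β ⟨F0 s * c * (F0 s)⁻¹, hCconj _ (hF0M s) _ c.2⟩ = act s (β c) := fun s c =>
    hwd _ (hF0M s) _ _ (hsec _).symm
  have hact_mul : ∀ s x y, act s (x * y) = act s x * act s y := fun s x y => by
    conv_lhs => rw [← hsec x, ← hsec y, ← map_mul, ← hact]
    show _ = β _ * β _
    rw [← map_mul]
    exact congrArg β (Subtype.ext (by simp only [Subgroup.coe_mul]; group))
  have hact_comp : ∀ s t x, act (s * t) x = act s (act t x) := fun s t x => by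
    show β _ = act s (β _)
    rw [← hact]
    exact congrArg β (Subtype.ext (by simp only [map_mul]; group))
  have hact_one : ∀ x, act 1 x = x := fun x => by
    show β _ = x
    conv_rhs => rw [← hsec x]
    exact congrArg β (Subtype.ext (by simp))
  let α : L32 →* MulAut (Equiv.Perm (Fin 5)) :=
    { toFun := fun s =>
        { toFun := act s
          invFun := act s⁻¹
          left_inv := fun x => by rw [← hact_comp, inv_mul_cancel, hact_one]
          right_inv := fun x => by rw [← hact_comp, mul_inv_cancel, hact_one]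
          map_mul' := hact_mul s }
      map_one' := MulEquiv.ext hact_one
      map_mul' := fun s t => MulEquiv.ext (hact_comp s t) }
  haveI : Fact (Nat.Prime 7) := ⟨by norm_num⟩
  haveI := simple_L32
  obtain ⟨s7, hs7⟩ := exists_prime_orderOf_dvd_card' (G := L32) 7 (by rw [card_L32]; norm_num)
  have hα : α.ker = ⊤ := by
    refine (IsSimpleGroup.eq_bot_or_eq_top_of_normal α.ker inferInstance).resolve_left fun e => ?_
    have h1 : α s7 = 1 := aut_perm_five _ (by rw [← map_pow, ← hs7, pow_orderOf_eq_one, map_one])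
    have : s7 = 1 := mem_bot.mp (e ▸ (h1 : s7 ∈ α.ker))
    rw [this, orderOf_one] at hs7
    omega
  have htriv : ∀ s (c : ↥Cz), β ⟨F0 s * c * (F0 s)⁻¹, hCconj _ (hF0M s) _ c.2⟩ = β c := fun s c => by
    rw [hact]
    exact congrArg (fun f : MulAut (Equiv.Perm (Fin 5)) => f (β c)) (MonoidHom.mem_ker.mp (hα ▸ mem_top s) : α s = 1)
  -- the projection to the symmetric group
  have hdec : ∀ g : ↥M, (g : G) * (F0 (θ g))⁻¹ ∈ Cz := fun g => by
    have := (hθ1 (g * (F (θ g))⁻¹)).mp (by rw [map_mul, map_inv, hθF, mul_inv_cancel])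
    simpa [F] using this
  let ψ : ↥M →* Equiv.Perm (Fin 5) := MonoidHom.mk' (fun g => β ⟨_, hdec g⟩) fun g h => by
    rw [← htriv (θ g) ⟨_, hdec h⟩, ← map_mul]
    refine congrArg β (Subtype.ext ?_)
    simp only [Subgroup.coe_mul, map_mul]
    group
  have hψC : ∀ g : ↥M, ∀ hg : (g : G) ∈ Cz, ψ g = β ⟨g, hg⟩ := fun g hg =>
    congrArg β (Subtype.ext (by
      show (g : G) * (F0 (θ g))⁻¹ = g
      rw [(hθ1 g).mpr hg, map_one, inv_one, mul_one]))
  let Φ : ↥M →* Equiv.Perm (Fin 5) × L32 := ψ.prod θ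
  have hΦF : ∀ s, Φ (F s) = (1, s) := fun s => Prod.ext (by
    show β _ = 1
    rw [← map_one β]
    refine congrArg β (Subtype.ext ?_)
    show F0 s * (F0 (θ (F s)))⁻¹ = 1
    rw [hθF, mul_inv_cancel]) (hθF s)
  have hΦker : ∀ g : ↥M, g ∈ Φ.ker ↔ ∃ hg : (g : G) ∈ Cz, β ⟨g, hg⟩ = 1 := fun g => by
    rw [MonoidHom.mem_ker, Prod.ext_iff]
    constructor
    · rintro ⟨h1, h2⟩
      exact ⟨(hθ1 g).mp h2, by rw [← hψC g]; exact h1⟩
    · rintro ⟨hg, h⟩
      exact ⟨(hψC g hg).trans h, (hθ1 g).mpr hg⟩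
  refine ⟨Φ, F, ?_, fun s t e => hF0 (congrArg Subtype.val e), hΦF, ?_, fun g => hθ1 g, fun g hg hE => ?_⟩
  · rintro ⟨x, s⟩
    refine ⟨⟨(sec x : G), hCM (sec x).2⟩ * F s, ?_⟩
    rw [map_mul, hΦF]
    refine Prod.ext ?_ ?_
    · show ψ _ * 1 = x
      rw [mul_one, hψC _ (sec x).2]; exact hsec x
    · show θ _ * s = s
      rw [(hθ1 _).mpr (sec x).2, one_mul]
  · rw [← hker]
    exact Nat.card_congr
      { toFun := fun g => ⟨⟨g.1, ((hΦker g.1).mp g.2).1⟩, ((hΦker g.1).mp g.2).2⟩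
        invFun := fun c => ⟨⟨c.1, hCM c.1.2⟩, (hΦker _).mpr ⟨c.1.2, c.2⟩⟩
        left_inv := fun g => rfl
        right_inv := fun c => rfl }
  · exact (hΦker g).mpr ⟨hg, hEker ⟨g, hg⟩ hE⟩

end Ctx

end Cfsg.Lib.JankoFour
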