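import Cfsg.Agent.JankoFour.ThreeTwelve.TrioLine
import Cfsg.Agent.JankoFour.ThreeTwelve.Centralizer
import Cfsg.Agent.LargeFischer.EightLocal

/-!
A linear group of degree three acting faithfully on the pure subgroup of order eight, carried over from the line of a
trio, and the factorisation of the normaliser of that subgroup.
-/

set_option autoImplicit false
set_option maxRecDepth 100000
set_option maxHeartbeats 1000000
set_option linter.style.haveILetI false
set_option linter.unusedSectionVars false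

namespace Cfsg.Lib.JankoFour

open Subgroup
open Data (W0)
open ThreeTwelve
open Cfsg.Lib.LargeFischer (L32 card_L32 simple_L32)

universe u

variable {G : Type u} [Group G] [Finite G]

namespace Ctx

variable {z : G} {P : Subgroup G} (C : Ctx z P)

include C

theorem exists_linear_Z8 [IsSimpleGroup G] (hG : ¬ IsMulCommutative G) :
    ∃ F : L32 →* G, Function.Injective F ∧ (∀ s, F s ∈ normalizer (C.Z8 : Set G)) ∧
      ∀ s, F s ∈ centralizer (C.Z8 : Set G) → s = 1 := by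
  classical
  obtain ⟨K, hKN, hKV, -, hK⟩ := C.exists_complement hG
  let D := C.sextet hG
  obtain ⟨L⟩ := exists_line D (K := K) hKN hKV hK
  obtain ⟨ha, hb, hc⟩ := L.mem
  obtain ⟨ha1, hb1, hc1, hab, hca, hcb, hcab⟩ := L.ind
  obtain ⟨m, hm, hma⟩ := D.fuse L.a (L.le ha) (L.pure' _ ha ha1)
  have hmi := inv_mem hm
  have hz' : m⁻¹ * L.a * m⁻¹⁻¹ = z := by rw [← hma]; group
  set b' := m⁻¹ * L.b * m⁻¹⁻¹ with hb'
  set c' := m⁻¹ * L.c * m⁻¹⁻¹ with hc'
  have hb0 : b' ∈ C.V ⊓ C.E := L.near _ ha ha1 _ hb _ hmi hz'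
  have hc0 : c' ∈ C.V ⊓ C.E := L.near _ ha ha1 _ hc _ hmi hz'
  obtain ⟨-, h0, hn1⟩ := C.inner_card hG
  have hcl : ∀ x ∈ C.V ⊓ C.E, x ≠ 1 → x ≠ z → IsConj z x → C.π x ∈ partW 0 := fun x hx h1 h2 hzx => by
    rcases C.A0_cases hx with r | r | r | r
    exacts [absurd r h1, absurd r h2, r.2, absurd hzx (hn1 x r)]
  have hne : ∀ x y : G, x ≠ y → m⁻¹ * x * m⁻¹⁻¹ ≠ m⁻¹ * y * m⁻¹⁻¹ := fun x y h e => h (by simpa using e)
  have hnez : ∀ x : G, x ≠ L.a → m⁻¹ * x * m⁻¹⁻¹ ≠ z := fun x h e => hne x L.a h (e.trans hz'.symm)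
  have hconj : ∀ x ∈ L.Y, x ≠ 1 → IsConj z (m⁻¹ * x * m⁻¹⁻¹) := fun x hx h1 =>
    (L.pure' x hx h1).trans (isConj_iff.mpr ⟨m⁻¹, rfl⟩)
  have hbc1 : L.b * L.c ≠ 1 := fun e => hcb (by
    rw [← D.inv_eq (L.le hb)]; exact eq_inv_of_mul_eq_one_right e)
  have hbca : L.b * L.c ≠ L.a := fun e => hcab (by
    rw [← e, D.commA (mul_mem (L.le hb) (L.le hc)) (L.le hb), D.mul_mul_cancel (L.le hb)])
  have hβ : C.π b' ∈ partW 0 :=
    hcl b' hb0 (fun e => hb1 (conj_eq_one_iff.mp e)) (hnez _ hab.symm) (hconj _ hb hb1)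
  have hγ : C.π c' ∈ partW 0 :=
    hcl c' hc0 (fun e => hc1 (conj_eq_one_iff.mp e)) (hnez _ hca) (hconj _ hc hc1)
  have hprod : b' * c' = m⁻¹ * (L.b * L.c) * m⁻¹⁻¹ := by rw [hb', hc']; group
  have hβγ : C.π b' ^^^ C.π c' ∈ partW 0 := by
    rw [← C.π_mul b' hb0.2 c' hc0.2]
    exact hcl _ (mul_mem hb0 hc0) (hprod ▸ fun e => hbc1 (conj_eq_one_iff.mp e))
      (hprod ▸ hnez _ hbca) (hprod ▸ hconj _ (mul_mem hb hc) hbc1)
  have hneq : C.π b' ≠ C.π c' := fun e => by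
    have := (mem_partW.mp hβγ).2.1
    rw [e, Nat.xor_self] at this
    exact this rfl
  have hω : C.π c' = mv Data.OM (C.π b') ∨ C.π c' = mv Data.OM (mv Data.OM (C.π b')) := by
    have h := List.all_eq_true.mp (List.all_eq_true.mp pure_lines _ hβ) _ hγ
    simp only [Bool.or_eq_true, beq_iff_eq, Bool.not_eq_true', List.any_eq_true, Bool.and_eq_true,
      List.contains_iff_mem] at h
    rcases h with (((h | h) | ⟨t, ht, h1, h2⟩) | h) | h
    · exact absurd h hneq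
    · simp [hβγ] at h
    · exfalso
      obtain ⟨q, hq, eq⟩ := C.π_surj t (W0_spec (mem_partW.mp ht).1).1
      have hT : ∀ x, x ∈ C.liftsOf (partW 1) → x ∈ D.T := fun x hx =>
        ⟨(C.lifts_A0 hx).1.1, (C.lifts_A0 hx).2.1, hn1 x hx⟩
      have hqT := hT q ⟨hq, eq ▸ ht⟩
      have t1 := D.conj_T hm hqT
      have t2 := D.conj_T hm (D.inner_translate hqT (C.lifts_A0 (c := 1) ⟨hq, eq ▸ ht⟩).1)
      have t3 := D.conj_T hm (hT (q * b') ⟨mul_mem hq hb0.2, by rw [C.π_mul q hq b' hb0.2, eq]; exact h1⟩)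
      have t4 := D.conj_T hm (hT (q * c') ⟨mul_mem hq hc0.2, by rw [C.π_mul q hq c' hc0.2, eq]; exact h2⟩)
      rw [show m * (q * z) * m⁻¹ = m * q * m⁻¹ * L.a by rw [← hma]; group] at t2
      rw [show m * (q * b') * m⁻¹ = m * q * m⁻¹ * L.b by rw [hb']; group] at t3
      rw [show m * (q * c') * m⁻¹ = m * q * m⁻¹ * L.c by rw [hc']; group] at t4
      exact L.empty _ t1 t2 t3 t4
    · exact Or.inl h
    · exact Or.inr h
  obtain ⟨v, w, hvZ, hwZ, hv, hw, -⟩ := C.exists_pair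
  obtain ⟨b1W, b1n, b1c⟩ := mem_partW.mp hβ
  obtain ⟨h, hh, hhb⟩ := C.conj_cls_H hb0.2 hvZ.1 b1n (by omega) (W0_spec b1W).2.1 (W0_spec (zC_W0 hvZ.2)).2.1
    (by rw [b1c, hv, zC_facts.2.2.1])
  have hcyc : ∀ x ∈ zC, mv Data.OM x ∈ zC := by decide +kernel
  have hhc : h * c' * h⁻¹ ∈ C.Z8 := by
    have hq1 := C.conj_mem C.pH hb0.2
    have key : ∀ q ∈ C.E, h * q * h⁻¹ ∈ C.Z8 → h * (C.p * q * C.p⁻¹) * h⁻¹ ∈ C.Z8 := fun q hq hz8 => by
      refine ⟨C.conj_mem hh (C.conj_mem C.pH hq), ?_⟩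
      rcases C.semilinear hh hq with e | e <;> rw [e]
      · exact hcyc _ hz8.2
      · exact hcyc _ (hcyc _ hz8.2)
    have k1 := key b' hb0.2 (hhb.symm ▸ hvZ)
    have fix : ∀ q ∈ C.E, C.π c' = C.π q → h * q * h⁻¹ ∈ C.Z8 → h * c' * h⁻¹ ∈ C.Z8 := fun q hq e hz8 => by
      rcases C.π_eq hc0.2 hq e with r | r <;> rw [r]
      · exact hz8
      · rw [show h * (z * q) * h⁻¹ = (h * z * h⁻¹) * (h * q * h⁻¹) by group, (C.z_comm hh).eq, mul_inv_cancel_right]
        exact mul_mem C.z_mem_Z8 hz8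
    rcases hω with e | e
    · exact fix _ hq1 (e.trans (C.rep_p _ hb0.2).symm) k1
    · exact fix _ (C.conj_mem C.pH hq1) (e.trans (by rw [C.rep_p _ hq1, C.rep_p _ hb0.2])) (key _ hq1 k1)
  set g := h * m⁻¹ with hg
  have hga : g * L.a * g⁻¹ = z := by
    rw [hg, show h * m⁻¹ * L.a * (h * m⁻¹)⁻¹ = h * (m⁻¹ * L.a * m⁻¹⁻¹) * h⁻¹ by group, hz', (C.z_comm hh).eq,
      mul_inv_cancel_right]
  have hgb : g * L.b * g⁻¹ = v := by rw [hg, ← hhb, hb']; group
  have hgc : g * L.c * g⁻¹ ∈ C.Z8 := by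
    rw [hg, show h * m⁻¹ * L.c * (h * m⁻¹)⁻¹ = h * (m⁻¹ * L.c * m⁻¹⁻¹) * h⁻¹ by group]; exact hhc
  -- the three elements generate the line
  have hY : Subgroup.closure ({L.a, L.b, L.c} : Set G) = L.Y := by
    set S := Subgroup.closure ({L.a, L.b, L.c} : Set G) with hS
    have hle : S ≤ L.Y := (closure_le _).mpr (by rintro x (rfl | rfl | rfl) <;> assumption)
    refine eq_of_le_of_card_ge hle ?_
    have hd := Subgroup.card_dvd_of_le hle
    rw [L.card] at hd ⊢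
    have h5 : ({1, L.a, L.b, L.c, L.a * L.b} : Finset G).card = 5 := by
      have h1 : L.a * L.b ≠ 1 := fun e => hab (by
        rw [← D.inv_eq (L.le hb)]; exact eq_inv_of_mul_eq_one_left e)
      have h2 : L.a * L.b ≠ L.a := fun e => hb1 (mul_eq_left.mp e)
      have h3 : L.a * L.b ≠ L.b := fun e => ha1 (mul_eq_right.mp e)
      simp [ha1.symm, hb1.symm, hc1.symm, h1.symm, h2.symm, h3.symm, hab, hca.symm, hcb.symm, hcab]
    have hsub : ↑({1, L.a, L.b, L.c, L.a * L.b} : Finset G) ⊆ (S : Set G) := by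
      have s1 : L.a ∈ S := subset_closure (by simp)
      have s2 : L.b ∈ S := subset_closure (by simp)
      have s3 : L.c ∈ S := subset_closure (by simp)
      intro x hx
      simp only [Finset.coe_insert, Finset.coe_singleton, Set.mem_insert_iff, Set.mem_singleton_iff] at hx
      rcases hx with rfl | rfl | rfl | rfl | rfl
      exacts [one_mem _, s1, s2, s3, mul_mem s1 s2]
    have h := Set.ncard_le_ncard hsub (Set.toFinite _)
    rw [Set.ncard_coe_finset, h5, ← Nat.card_coe_set_eq, SetLike.coe_sort_coe] at h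
    have := Nat.le_of_dvd (by norm_num) hd
    interval_cases hn : Nat.card ↥S <;> omega
  have hmap : L.Y.map (MulAut.conj g).toMonoidHom = C.Z8 := by
    refine eq_of_le_of_card_ge ?_ (by rw [card_map_of_injective (MulAut.conj g).injective, L.card, C.card_Z8])
    rw [← hY, MonoidHom.map_closure, closure_le]
    rintro _ ⟨x, rfl | rfl | rfl, rfl⟩
    · show g * L.a * g⁻¹ ∈ C.Z8
      rw [hga]; exact C.z_mem_Z8
    · show g * L.b * g⁻¹ ∈ C.Z8
      rw [hgb]; exact hvZ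
    · exact hgc
  have hmem : ∀ y ∈ L.Y, g * y * g⁻¹ ∈ C.Z8 := fun y hy => hmap.le ⟨y, hy, rfl⟩
  let F : L32 →* G := (MulAut.conj g).toMonoidHom.comp L.f
  have hFc : ∀ (s : L32) (y : G), F s * (g * y * g⁻¹) * (F s)⁻¹ = g * (L.f s * y * (L.f s)⁻¹) * g⁻¹ := fun s y => by
    show g * L.f s * g⁻¹ * _ * (g * L.f s * g⁻¹)⁻¹ = _
    group
  refine ⟨F, (MulAut.conj g).injective.comp L.f_inj, fun s => ?_, ?_⟩
  · refine Subgroup.mem_normalizer_fintype fun q hq => ?_
    obtain ⟨y, hy, rfl⟩ := hmap.symm ▸ (hq : q ∈ C.Z8)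
    show F s * (g * y * g⁻¹) * (F s)⁻¹ ∈ C.Z8
    rw [hFc, ← hmap]
    exact ⟨_, (mem_normalizer_iff.mp (L.f_mem s).2 y).mp hy, rfl⟩
  -- the kernel of the action
  let N : Subgroup L32 := (centralizer (C.Z8 : Set G)).comap F
  haveI := simple_L32
  have hN : N.Normal := ⟨fun n hn s => by
    refine mem_centralizer_iff.mpr fun q hq => ?_
    obtain ⟨y, hy, rfl⟩ := hmap.symm ▸ (hq : q ∈ C.Z8)
    have hs := (mem_normalizer_iff.mp (L.f_mem s⁻¹).2 y).mp hy
    have h1 := mem_centralizer_iff.mp hn _ (hmem _ hs)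
    rw [← hFc, map_inv] at h1
    show g * y * g⁻¹ * F (s * n * s⁻¹) = F (s * n * s⁻¹) * (g * y * g⁻¹)
    rw [map_mul, map_mul, map_inv]
    calc g * y * g⁻¹ * (F s * F n * (F s)⁻¹) = F s * ((F s)⁻¹ * (g * y * g⁻¹) * (F s)⁻¹⁻¹ * F n) * (F s)⁻¹ := by group
      _ = F s * (F n * ((F s)⁻¹ * (g * y * g⁻¹) * (F s)⁻¹⁻¹)) * (F s)⁻¹ := by rw [h1]
      _ = F s * F n * (F s)⁻¹ * (g * y * g⁻¹) := by group⟩
  rcases IsSimpleGroup.eq_bot_or_eq_top_of_normal N hN with e | e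
  · exact fun s hs => mem_bot.mp (e ▸ (hs : s ∈ N))
  · exfalso
    obtain ⟨s, y, hy, hne'⟩ := L.f_moves
    have hsN : s ∈ N := e ▸ mem_top s
    have h1 := mem_centralizer_iff.mp hsN _ (hmem y hy)
    have h2 := hFc s y
    rw [← h1, mul_inv_cancel_right] at h2
    exact hne' (by simpa using h2.symm)

/-- The normaliser acts on the subgroup of order eight as the linear group. -/
theorem card_normalizer_Z8_le : Nat.card ↥(normalizer (C.Z8 : Set G)) ≤ 168 * Nat.card ↥(centralizer (C.Z8 : Set G)) := by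
  classical
  obtain ⟨v, w, hv, hw, hv', hw', -⟩ := C.exists_pair
  set Ce := (centralizer (C.Z8 : Set G)).subgroupOf (normalizer (C.Z8 : Set G)) with hCe
  let A : Finset G := ((C.Z8 : Set G).toFinite.toFinset).erase 1
  have hmA : ∀ {x}, x ∈ A ↔ x ∈ C.Z8 ∧ x ≠ 1 := fun {x} => by simp [A, and_comm]
  have hAc : A.card = 7 := by
    rw [Finset.card_erase_of_mem (by simp [one_mem]), ← Set.ncard_eq_toFinset_card, ← Nat.card_coe_set_eq,
      SetLike.coe_sort_coe, C.card_Z8]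
  let S : Finset (Σ _ : G, Σ _ : G, G) := A.sigma fun a => (A.erase a).sigma fun b => ((A.erase a).erase b).erase (a * b)
  have hSc : S.card = 168 := by
    rw [Finset.card_sigma, Finset.sum_const_nat (m := 24), hAc]
    intro a ha
    rw [Finset.card_sigma, Finset.sum_const_nat (m := 4), Finset.card_erase_of_mem ha, hAc]
    intro b hb
    obtain ⟨hba, hbA⟩ := Finset.mem_erase.mp hb
    have haE := hmA.mp ha
    have hbE := hmA.mp hbA
    have hb2 : b * b = 1 := C.V_sq (C.Z8_le_V hbE.1)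
    have h1 : a * b ≠ 1 := fun e => hba (by
      calc b = a * b * b := by rw [e, one_mul]
        _ = a := by rw [mul_assoc, hb2, mul_one])
    rw [Finset.card_erase_of_mem, Finset.card_erase_of_mem hb, Finset.card_erase_of_mem ha, hAc]
    exact Finset.mem_erase.mpr ⟨fun e => haE.2 (mul_eq_right.mp e), Finset.mem_erase.mpr
      ⟨fun e => hbE.2 (mul_eq_left.mp e), hmA.mpr ⟨mul_mem haE.1 hbE.1, h1⟩⟩⟩
  let act : ↥(normalizer (C.Z8 : Set G)) → G → G := fun n x => (n : G) * x * (n : G)⁻¹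
  let f : ↥(normalizer (C.Z8 : Set G)) → Σ _ : G, Σ _ : G, G := fun n => ⟨act n z, act n v, act n w⟩
  have hf : ∀ n, f n ∈ S := by
    intro n
    have hm : ∀ x ∈ C.Z8, x ≠ 1 → act n x ∈ A := fun x hx h1 =>
      hmA.mpr ⟨(mem_normalizer_iff.mp n.2 x).mp hx, fun e => h1 (conj_eq_one_iff.mp e)⟩
    have hinj : ∀ x y, x ≠ y → act n x ≠ act n y := fun x y h e => h (by simpa [act] using e)
    have hπz : C.π z = 0 := (C.π_zero z C.X.mem).mpr (Or.inr rfl)
    refine Finset.mem_sigma.mpr ⟨hm _ C.z_mem_Z8 C.X.ne, Finset.mem_sigma.mpr ⟨Finset.mem_erase.mpr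
      ⟨hinj _ _ fun e => ?_, hm _ hv fun e => ?_⟩, Finset.mem_erase.mpr ⟨?_, Finset.mem_erase.mpr
      ⟨hinj _ _ fun e => ?_, Finset.mem_erase.mpr ⟨hinj _ _ fun e => ?_, hm _ hw fun e => ?_⟩⟩⟩⟩⟩
    · rw [e, hπz] at hv'; omega
    · rw [e, C.π_one] at hv'; omega
    · show act n w ≠ act n z * act n v
      rw [show act n z * act n v = act n (z * v) by simp only [act]; group]
      refine hinj _ _ fun e => ?_
      rw [e, C.π_z_mul hv.1, hv'] at hw'; omega
    · rw [e, hv'] at hw'; omega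
    · rw [e, hπz] at hw'; omega
    · rw [e, C.π_one] at hw'; omega
  have hinj : ∀ n n', f n = f n' → n⁻¹ * n' ∈ Ce := by
    intro n n' e
    simp only [f, Sigma.mk.injEq, heq_eq_eq] at e
    have key : ∀ x, act n x = act n' x → ((n⁻¹ * n' : ↥(normalizer (C.Z8 : Set G))) : G) * x =
        x * ((n⁻¹ * n' : ↥(normalizer (C.Z8 : Set G))) : G) := fun x hx => by
      simp only [Subgroup.coe_mul, Subgroup.coe_inv]
      calc (n : G)⁻¹ * n' * x = (n : G)⁻¹ * (act n' x) * n' := by simp only [act]; group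
        _ = x * ((n : G)⁻¹ * n') := by rw [← hx]; simp only [act]; group
    rw [hCe, mem_subgroupOf]
    exact C.mem_centralizer_Z8 hv.1 hv' hw.1 hw' (mem_centralizer_singleton_iff.mpr (key z e.1)) (key v e.2.1)
      (key w e.2.2)
  have hidx : Ce.index ≤ 168 := by
    rw [Subgroup.index, ← hSc, ← Fintype.card_coe, ← Nat.card_eq_fintype_card]
    refine Nat.card_le_card_of_injective (fun q => ⟨f q.out, hf _⟩) fun a b e => ?_
    rw [← a.out_eq, ← b.out_eq]
    exact QuotientGroup.eq.mpr (hinj _ _ (congrArg Subtype.val e))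
  have hle : centralizer (C.Z8 : Set G) ≤ normalizer (C.Z8 : Set G) := centralizer_le_normalizer _
  rw [← Ce.card_mul_index, hCe, Nat.card_congr (subgroupOfEquivOfLe hle).toEquiv, mul_comm 168]
  exact Nat.mul_le_mul_left _ hidx

end Ctx

end Cfsg.Lib.JankoFour
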