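import Cfsg.Agent.Golay.TrioGroup

/-!
A subgroup isomorphic to the special linear group of degree three in the stabiliser of the standard trio, permuting
the seven sextets.
-/

set_option autoImplicit false
set_option maxRecDepth 100000

namespace Cfsg.Lib.JankoFour.ThreeTwelve

open Cfsg Cfsg.Lib.Golay Cfsg.Lib.PermCert Matrix
open scoped Pointwise

/-- The image of a point under the product of two listed elements. -/
def xImg (i : ℕ) : ℕ := ap trioAct8.1.1 (ap trioAct10.1.1 i)

theorem xData : (trioAct8, [1, 2, 4], [1, 2, 4], 1) ∈ trioActs ∧ (trioAct10, [1, 2, 4], [1, 2, 4], 2) ∈ trioActs ∧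
    (trioKerList.all fun n => ((List.range 24).all fun i => ap n.1 i == i) ||
      (List.range 24).any fun i => ap n.1 (xImg i) != xImg (ap n.1 i)) = true ∧
    valid 24 trioAct8.1 = true ∧ valid 24 trioAct10.1 = true ∧
    matOfRows [1, 2, 4] = (1 : Matrix (Fin 3) (Fin 3) (ZMod 2)) := by
  decide +kernel

/-- The projection of the pairs. -/
def pSnd : trioPairs →* TrioImg := (MonoidHom.snd _ _).comp trioPairs.subtype

theorem pSnd_surj : Function.Surjective pSnd := fun q => by
  obtain ⟨x, hx⟩ := trio_snd_surj q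
  exact ⟨⟨_, hx⟩, rfl⟩

/-- The pairs over the identity are listed. -/
theorem ker_listed {q : trioPairs} (hq : pSnd q = 1) :
    ∃ n ∈ trioKerList, valid 24 n = true ∧ toP n = (q : Equiv.Perm GolayPt × TrioImg).1 := by
  obtain ⟨P, hP, hmem, -⟩ := exists_binGroup trioKer_bin
  have hk := List.all_eq_true.mp trioKer_ok
  have hval : ∀ n ∈ trioKerList, valid 24 n = true := fun n hn => by
    have h := trioKer_bin
    simp only [isBinGroup, Bool.and_eq_true, List.all_eq_true] at h
    exact h.1.1.1.2 n hn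
  have hcard : Nat.card pSnd.ker = 64 := by
    have h := Subgroup.card_mul_index pSnd.ker
    rw [Subgroup.index_ker, MonoidHom.range_eq_top.mpr pSnd_surj, Subgroup.card_top, card_trioImg,
      Nat.card_eq_of_bijective _ trio_proj_bijective, card_trio_grp] at h
    omega
  let f : P → pSnd.ker := fun x => ⟨⟨(x.1, 1), by
    obtain ⟨n, hn, e⟩ := (hmem _).mp x.2
    have h := hk n hn
    simp only [Bool.and_eq_true, List.all_eq_true, List.contains_iff_mem, beq_iff_eq] at h
    obtain ⟨⟨⟨hs, -⟩, hS⟩, hO⟩ := h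
    rw [← e]
    refine ⟨⟨perm 24 n, by simpa using mem_grp_of_sift (CG.ok_spec cgTrio_ok).1 (w := [n]) (by simpa using hval n hn) hs,
      rfl⟩, fun i => ⟨i, ?_, by simp⟩, fun k => ?_⟩
    · refine Finset.eq_of_subset_of_card_le (fun y hy => ?_) (by rw [Finset.card_smul_finset])
      obtain ⟨u, hu, rfl⟩ := Finset.mem_smul_finset.mp hy
      simp only [trioSext, famOf, List.mem_toFinset, List.mem_map] at hu ⊢
      obtain ⟨m, hm, rfl⟩ := hu
      exact ⟨_, hS _ (by
        rw [List.getD_eq_getElem _ _ (show i.val < trioSexts.length from i.2)]; exact List.getElem_mem _) m hm,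
        pts_img (hval n hn) m⟩
    · show toP n • pts _ = pts _
      rw [← pts_img (hval n hn), hO _ (by
        rw [List.getD_eq_getElem _ _ (show k.val < trioOcts.length from k.2)]; exact List.getElem_mem _)]
      rfl⟩, rfl⟩
  have hf : Function.Bijective f := (Nat.bijective_iff_injective_and_card f).mpr
    ⟨fun x y h => Subtype.ext (congrArg (fun q : pSnd.ker => (q : trioPairs).1.1) h), by rw [hP, hcard]; rfl⟩
  obtain ⟨x, hx⟩ := hf.2 ⟨q, hq⟩
  obtain ⟨n, hn, e⟩ := (hmem _).mp x.2
  refine ⟨n, hn, hval n hn, ?_⟩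
  rw [e]
  exact congrArg (fun r : pSnd.ker => (r : trioPairs).1.1) hx

/-- An element permuting the three octads cyclically and fixing the sextets, centralised only trivially in the
kernel. -/
theorem exists_rotation : ∃ x : trioPairs, (pSnd x).1 = 1 ∧ ∀ n : trioPairs, pSnd n = 1 → n * x = x * n → n = 1 := by
  obtain ⟨h8, h10, hfree, v8, v10, hone⟩ := xData
  obtain ⟨A, hA, hAm⟩ := mem_pairs_of_act h8
  obtain ⟨B, hB, hBm⟩ := mem_pairs_of_act h10
  refine ⟨⟨_, mul_mem hAm hBm⟩, ?_, fun n hn hc => ?_⟩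
  · show A * B = 1
    refine Units.ext ?_
    rw [Units.val_mul, hA, hB]
    show matOfRows [1, 2, 4] * matOfRows [1, 2, 4] = 1
    rw [hone, mul_one]
  · obtain ⟨m, hm, hv, e⟩ := ker_listed hn
    have hc' : (n : Equiv.Perm GolayPt × TrioImg).1 * (toP trioAct8.1 * toP trioAct10.1) =
        (toP trioAct8.1 * toP trioAct10.1) * (n : Equiv.Perm GolayPt × TrioImg).1 :=
      congrArg (fun r : trioPairs => r.1.1) hc
    rw [← e] at hc'
    have h := List.all_eq_true.mp hfree m hm
    simp only [Bool.or_eq_true, List.all_eq_true, List.any_eq_true, List.mem_range, beq_iff_eq, bne_iff_ne] at h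
    rcases h with h | ⟨i, hi, hne⟩
    · refine Subtype.ext (Prod.ext ?_ hn)
      rw [← e]
      exact Equiv.ext fun p => pidx_injective ((pidx_toP hv p).trans (h _ (pidx_lt p)))
    · exfalso
      obtain ⟨p, rfl⟩ : ∃ p, pidx p = i := pidx_surj i hi
      refine hne ?_
      have := congrArg (fun r : Equiv.Perm GolayPt => pidx (r p)) hc'
      simpa [Equiv.Perm.mul_apply, pidx_toP hv, pidx_toP v8, pidx_toP v10, xImg] using this
where
  pidx_surj : ∀ i < 24, ∃ p : GolayPt, pidx p = i := by decide +kernel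

/-- The special linear group acts on the standard trio. -/
theorem exists_linear : ∃ f : SpecialLinearGroup (Fin 3) (ZMod 2) →* Equiv.Perm GolayPt, Function.Injective f ∧
    (∀ s, f s ∈ M24 ∧ ∀ i, ∃ j, f s • trioSext i = trioSext j) ∧ ∃ s i j, i ≠ j ∧ f s • trioSext i = trioSext j := by
  obtain ⟨x, hx1, hxfree⟩ := exists_rotation
  let Γ : Subgroup trioPairs := Subgroup.centralizer ({x} : Set trioPairs) ⊓ ((MonoidHom.snd _ _).comp pSnd).ker
  let ψ : ↥Γ →* GL (Fin 3) (ZMod 2) := ((MonoidHom.fst _ _).comp pSnd).comp Γ.subtype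
  have hmem : ∀ q, q ∈ Γ ↔ q * x = x * q ∧ (pSnd q).2 = 1 := fun q => by
    rw [Subgroup.mem_inf, Subgroup.mem_centralizer_singleton_iff, MonoidHom.mem_ker]
    rfl
  have hinj : Function.Injective ψ := by
    refine (injective_iff_map_eq_one _).mpr fun q hq => Subtype.ext ?_
    obtain ⟨hc, h2⟩ := (hmem _).mp q.2
    exact hxfree _ (Prod.ext hq h2) hc
  have hsurj : Function.Surjective ψ := fun A => by
    obtain ⟨q, hq⟩ := pSnd_surj (A, 1)
    let N := pSnd.ker
    haveI : Finite trioPairs := inferInstance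
    have hcx : ∀ r : trioPairs, (pSnd r).2 = 1 → r * x * r⁻¹ * x⁻¹ ∈ N := fun r hr => by
      rw [MonoidHom.mem_ker, map_mul, map_mul, map_mul, map_inv, map_inv]
      refine Prod.ext ?_ ?_
      · simp only [Prod.fst_mul, Prod.fst_inv, Prod.fst_one, hx1]; group
      · simp only [Prod.snd_mul, Prod.snd_inv, Prod.snd_one, hr]; group
    let κ : ↥N → ↥N := fun n => ⟨n * x * (n : trioPairs)⁻¹ * x⁻¹, hcx _ (by rw [MonoidHom.mem_ker.mp n.2]; rfl)⟩
    have hκ : Function.Injective κ := fun n m e => by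
      have e' : (n : trioPairs) * x * (n : trioPairs)⁻¹ = m * x * (m : trioPairs)⁻¹ :=
        mul_right_cancel (congrArg Subtype.val e)
      have h1 : ((m : trioPairs)⁻¹ * n) * x = x * ((m : trioPairs)⁻¹ * n) := by
        calc (m : trioPairs)⁻¹ * n * x = (m : trioPairs)⁻¹ * (n * x * (n : trioPairs)⁻¹) * n := by group
          _ = x * ((m : trioPairs)⁻¹ * n) := by rw [e']; group
      exact Subtype.ext (inv_mul_eq_one.mp (hxfree _ (MonoidHom.mem_ker.mp (N.mul_mem (N.inv_mem m.2) n.2)) h1)).symm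
    obtain ⟨n, hn⟩ := Finite.surjective_of_injective hκ ⟨_, hcx q (by rw [hq])⟩
    have hn' : (n : trioPairs) * x * (n : trioPairs)⁻¹ * x⁻¹ = q * x * q⁻¹ * x⁻¹ := congrArg Subtype.val hn
    have e := mul_right_cancel hn'
    refine ⟨⟨(n : trioPairs)⁻¹ * q, (hmem _).mpr ⟨?_, ?_⟩⟩, ?_⟩
    · calc (n : trioPairs)⁻¹ * q * x = (n : trioPairs)⁻¹ * (q * x * q⁻¹) * q := by group
        _ = x * ((n : trioPairs)⁻¹ * q) := by rw [← e]; group
    · rw [map_mul, map_inv, MonoidHom.mem_ker.mp n.2, inv_one, one_mul, hq]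
    · show (pSnd ((n : trioPairs)⁻¹ * q)).1 = A
      rw [map_mul, map_inv, MonoidHom.mem_ker.mp n.2, inv_one, one_mul, hq]
  let e := MulEquiv.ofBijective ψ ⟨hinj, hsurj⟩
  let f : SpecialLinearGroup (Fin 3) (ZMod 2) →* Equiv.Perm GolayPt :=
    (((MonoidHom.fst _ _).comp trioPairs.subtype).comp Γ.subtype).comp
      (e.symm.toMonoidHom.comp SpecialLinearGroup.toGL)
  have hrel : ∀ s, TrioRel (f s) (pSnd (e.symm (SpecialLinearGroup.toGL s) : trioPairs)) := fun s =>
    (e.symm (SpecialLinearGroup.toGL s) : trioPairs).2.2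
  have hgl : ∀ s, (pSnd (e.symm (SpecialLinearGroup.toGL s) : trioPairs)).1 = SpecialLinearGroup.toGL s := fun s =>
    e.apply_symm_apply _
  refine ⟨f, ?_, fun s => ⟨?_, fun i => ?_⟩, ?_⟩
  · refine (injective_iff_map_eq_one _).mpr fun s hs => ?_
    have h := (e.symm (SpecialLinearGroup.toGL s) : trioPairs)
    have hsx : ((e.symm (SpecialLinearGroup.toGL s) : trioPairs) : Equiv.Perm GolayPt × TrioImg).1 = 1 := hs
    have h1 := trio_fst_inj (q := pSnd (e.symm (SpecialLinearGroup.toGL s) : trioPairs)) (by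
      have := (e.symm (SpecialLinearGroup.toGL s) : trioPairs).2
      exact hsx ▸ this)
    have h2 := hgl s
    rw [h1] at h2
    exact Subtype.ext (congrArg (fun g : GL (Fin 3) (ZMod 2) => g.val) h2).symm
  · exact trio_le_M24 (e.symm (SpecialLinearGroup.toGL s) : trioPairs).2.1
  · obtain ⟨j, hj, -⟩ := (hrel s).1 i
    exact ⟨j, hj⟩
  · let s₀ : SpecialLinearGroup (Fin 3) (ZMod 2) := SpecialLinearGroup.transvection (show (0 : Fin 3) ≠ 1 by decide) 1
    obtain ⟨j, hj, hl⟩ := (hrel s₀).1 1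
    refine ⟨s₀, 1, j, fun hij => ?_, hj⟩
    rw [hgl, ← hij] at hl
    exact moved (by simpa [s₀, SpecialLinearGroup.transvection_coe, Matrix.transvection] using hl)
where
  trio_le_M24 : cgTrio.grp ≤ M24 := fun d hd => grp_cgM24 ▸ (stdTrio.stab_eq ▸ hd :).1
  moved : (Matrix.transvection (0 : Fin 3) 1 (1 : ZMod 2)) *ᵥ trioLab 1 ≠ trioLab 1 := by decide +kernel

end Cfsg.Lib.JankoFour.ThreeTwelve
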