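import Cfsg.Agent.JankoFour.ThreeTwelve.TrioComplement
import Cfsg.Agent.JankoFour.Split
import Cfsg.Agent.LargeFischer.DuadModel

/-!
The line of a trio: seven members of the first class in the distinguished subgroup forming a subgroup of order eight,
and a linear group normalising it.
-/

set_option autoImplicit false
set_option maxRecDepth 100000
set_option maxHeartbeats 1000000
set_option linter.style.haveILetI false
set_option linter.unusedSectionVars false

namespace Cfsg.Lib.JankoFour.ThreeTwelve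

open Subgroup
open Cfsg.Lib.Golay
open Cfsg.Lib.LargeFischer (Sextet)
open scoped Pointwise

/-- A tetrad of each sextet inside the first octad. -/
def repT : List ℕ := [147, 1031, 29, 1161, 1050, 142, 1172]

/-- The first octad. -/
def octT : ℕ := 5279

/-- A tetrad. -/
def tR (i : ℕ) : ℕ := repT.getD i 0

/-- An octad code. -/
def isOct (m : ℕ) : Bool := inCode m && pc m == 8

theorem line_sets : isOct octT = true ∧
    (∀ i : Fin 7, pc (tR i) = 4 ∧ ∀ m ∈ decList (trioSexts.getD i.val 0), pc m = 4 ∧ m < 2 ^ 24 ∧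
      (m = tR i ∨ isOct (m ^^^ tR i) = true)) ∧
    (∀ i : Fin 7, tR i ∈ decList (trioSexts.getD i.val 0)) := by
  decide +kernel

theorem line_prod : ∀ i j : Fin 7, i ≠ j → ∃ k : Fin 7, tR i ^^^ tR j = tR k ∨ tR i ^^^ tR j = octT ^^^ tR k := by
  decide +kernel

theorem line_pair : ∀ i j : Fin 7, i ≠ j → pc (tR i &&& tR j) = 2 ∧ pc (tR j &&& (octT ^^^ tR i)) = 2 ∧
      pc ((tR i &&& tR j) ^^^ tR i) = 2 ∧ pc ((tR j &&& (octT ^^^ tR i)) ^^^ (octT ^^^ tR i)) = 2 ∧
      (tR i &&& tR j) ^^^ (tR j &&& (octT ^^^ tR i)) = tR j := by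
  decide +kernel

theorem line_diff : ∀ i j : Fin 7, i ≠ j → tR i ≠ tR j ∧ tR i ≠ octT ^^^ tR j := by
  decide +kernel

theorem line_cover : ∀ c < 24, ∀ i : Fin 3,
    (decList (trioSexts.getD i.val 0)).any (fun m => m.testBit c) = true := by
  decide +kernel

theorem line_sep : ∀ c < 24, ∀ d < 24, c ≠ d → ∃ i : Fin 3, ∀ m ∈ decList (trioSexts.getD i.val 0),
    m.testBit c = false ∨ m.testBit d = false := by
  decide +kernel

theorem pts_zero : pts 0 = ∅ := by
  ext p; simp

universe u

variable {G : Type u} [Group G] [Finite G] {z : G}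

section Model

variable {D : Sextet G z} (M : D.Model)

attribute [local instance] Sextet.Model.fintype Sextet.Model.deceq

theorem sm_mul_self (s : Finset M.Pt) : M.sm s * M.sm s = 1 := D.sq _ (M.sm_mem s)

theorem sm_symmDiff (s t : Finset M.Pt) : M.sm (symmDiff s t) = M.sm s * M.sm t := by
  induction s using Finset.induction_on with
  | empty => rw [show symmDiff (∅ : Finset M.Pt) t = t from bot_symmDiff t, M.sm_empty, one_mul]
  | insert a s ha ih =>
    rw [M.sm_insert a s ha, mul_assoc, ← ih]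
    by_cases hat : a ∈ symmDiff s t
    · have e : symmDiff s t = insert a (symmDiff (insert a s) t) := by
        ext b
        simp only [Finset.mem_symmDiff, Finset.mem_insert] at hat ⊢
        by_cases hb : b = a
        · subst hb; tauto
        · simp [hb]
      have hn : a ∉ symmDiff (insert a s) t := by
        simp only [Finset.mem_symmDiff, Finset.mem_insert] at hat ⊢
        tauto
      conv_rhs => rw [e, M.sm_insert a _ hn, ← mul_assoc, D.sq _ (M.mem a), one_mul]
    · have e : symmDiff (insert a s) t = insert a (symmDiff s t) := by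
        ext b
        simp only [Finset.mem_symmDiff, Finset.mem_insert] at hat ⊢
        by_cases hb : b = a
        · subst hb; tauto
        · simp [hb]
      rw [e, M.sm_insert a _ hat]

theorem sm_pair {s : Finset M.Pt} (h : s.card = 2) : M.sm s ∈ D.T := by
  obtain ⟨a, b, hab, rfl⟩ := Finset.card_eq_two.mp h
  rw [M.sm_insert a _ (by simpa using hab), ← insert_empty_eq, M.sm_insert b _ (Finset.notMem_empty b), M.sm_empty, mul_one]
  exact M.pair a b hab

theorem Z_not_T {a : G} (ha : a ∈ D.Z) : a ∉ D.T := fun h => h.2.2 ha.2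

theorem Z_ne_one {a : G} (ha : a ∈ D.Z) : a ≠ 1 := fun e => D.ne1 (isConj_one_left.mp (e ▸ ha.2))

/-- Eight points summing to the identity form a Steiner system. -/
theorem steiner : Cfsg.IsSteinerSystem 5 8 {s : Finset M.Pt | s.card = 8 ∧ M.sm s = 1} := by
  refine ⟨fun s hs => hs.1, fun f hf => ?_⟩
  obtain ⟨x, hx⟩ := Finset.card_pos.mp (by omega : 0 < f.card)
  have hq : (f.erase x).card = 4 := by rw [Finset.card_erase_of_mem hx]; omega
  obtain ⟨r, hr, he, hxr⟩ := M.sextet _ hq x
  have hne : r ≠ f.erase x := fun e => Finset.notMem_erase x f (e ▸ hxr)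
  have hd : (r ∩ f.erase x).card = 0 := by
    by_contra h
    exact hne (M.sm_inj _ _ he (by omega) (by rw [hr, hq]; decide))
  have hdis : Disjoint r (f.erase x) := Finset.disjoint_iff_inter_eq_empty.mpr (Finset.card_eq_zero.mp hd)
  refine ⟨r ∪ f.erase x, ⟨⟨by rw [Finset.card_union_of_disjoint hdis, hr, hq], ?_⟩, fun a ha => ?_⟩, ?_⟩
  · rw [← Finset.sup_eq_union, ← hdis.symmDiff_eq_sup, sm_symmDiff, he, sm_mul_self]
  · by_cases hax : a = x
    · exact Finset.mem_union_left _ (hax ▸ hxr)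
    · exact Finset.mem_union_right _ (Finset.mem_erase.mpr ⟨hax, ha⟩)
  · rintro s ⟨⟨hs, hs1⟩, hfs⟩
    refine M.sm_inj _ _ ?_ ?_ ?_
    · rw [hs1, ← Finset.sup_eq_union, ← hdis.symmDiff_eq_sup, sm_symmDiff, he, sm_mul_self]
    · rw [hs, Finset.card_union_of_disjoint hdis, hr, hq]
      have : f.card ≤ (s ∩ (r ∪ f.erase x)).card := Finset.card_le_card fun a ha => Finset.mem_inter.mpr ⟨hfs ha, by
        by_cases hax : a = x
        · exact Finset.mem_union_left _ (hax ▸ hxr)
        · exact Finset.mem_union_right _ (Finset.mem_erase.mpr ⟨hax, ha⟩)⟩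
      omega
    · rw [hs, Finset.card_union_of_disjoint hdis, hr, hq]; decide

end Model

/-- What is used of the line of a trio. -/
structure Line (D : Sextet G z) where
  Y : Subgroup G
  le : Y ≤ D.A
  card : Nat.card ↥Y = 8
  pure' : ∀ y ∈ Y, y ≠ 1 → IsConj z y
  near : ∀ x ∈ Y, x ≠ 1 → ∀ y ∈ Y, ∀ m ∈ normalizer (D.A : Set G), m * x * m⁻¹ = z → m * y * m⁻¹ ∈ D.A0
  a : G
  b : G
  c : G
  mem : a ∈ Y ∧ b ∈ Y ∧ c ∈ Y
  ind : a ≠ 1 ∧ b ≠ 1 ∧ c ≠ 1 ∧ a ≠ b ∧ c ≠ a ∧ c ≠ b ∧ c ≠ a * b
  empty : ∀ t ∈ D.T, t * a ∈ D.T → t * b ∈ D.T → t * c ∈ D.T → False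
  f : Matrix.SpecialLinearGroup (Fin 3) (ZMod 2) →* G
  f_inj : Function.Injective f
  f_mem : ∀ s, f s ∈ normalizer (D.A : Set G) ∧ f s ∈ normalizer (Y : Set G)
  f_moves : ∃ s, ∃ y ∈ Y, f s * y * (f s)⁻¹ ≠ y

attribute [local instance] Sextet.Model.fintype Sextet.Model.deceq

set_option maxHeartbeats 2000000 in
theorem exists_line (D : Sextet G z) {K : Subgroup G} (hKN : K ≤ normalizer (D.A : Set G)) (hKV : K ⊓ D.A = ⊥)
    (hK : Cfsg.Spor.IsoM24 ↥K) : Nonempty (Line D) := by
  classical
  obtain ⟨M⟩ := D.exists_model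
  obtain ⟨e, he⟩ := exists_equiv_octads M.card (steiner M)
  let es : Finset Cfsg.GolayPt → G := fun S => M.sm (S.image e.symm)
  let em : ℕ → G := fun m => es (pts m)
  have hoct : ∀ m, isOct m = true → em m = 1 := fun m hm => by
    simp only [isOct, Bool.and_eq_true, beq_iff_eq] at hm
    have h := (he ((pts m).image e.symm)).mp (by
      rw [Finset.image_image, Equiv.self_comp_symm, Finset.image_id]
      exact pts_mem_octads hm.1 hm.2)
    exact h.2
  have hxor : ∀ a b, em (a ^^^ b) = em a * em b := fun a b => by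
    show M.sm _ = M.sm _ * M.sm _
    rw [pts_xor_eq, Finset.image_symmDiff _ _ e.symm.injective, sm_symmDiff]
  have hsq : ∀ m, em m * em m = 1 := fun m => sm_mul_self M _
  have hcard : ∀ m, ((pts m).image e.symm).card = pc m := fun m => by
    rw [Finset.card_image_of_injective _ e.symm.injective, pc_eq_card]
  obtain ⟨hO, hS, hR⟩ := line_sets
  have hprod := line_prod
  have hpair := line_pair
  have hcover := line_cover
  have hsep := line_sep
  have hdiff := line_diff
  have hO1 : em octT = 1 := hoct _ hO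
  let A : Fin 7 → G := fun i => em (tR i)
  have hAZ : ∀ i, A i ∈ D.Z := fun i => M.sm_four _ ((hcard _).trans (hS i).1)
  have hAA : ∀ i, A i ∈ D.A := fun i => (hAZ i).1
  have hmember : ∀ (i : Fin 7), ∀ m ∈ decList (trioSexts.getD i.val 0), em m = A i := by
    intro i m hm
    rcases ((hS i).2 m hm).2.2 with h | h
    · rw [h]
    · have := hoct _ h
      rw [hxor] at this
      exact (mul_eq_one_iff_eq_inv.mp this).trans (D.inv_eq (hAA i))
  have hmul : ∀ i j, i ≠ j → ∃ k, A i * A j = A k := by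
    intro i j hij
    obtain ⟨k, h | h⟩ := hprod i j hij
    · exact ⟨k, by show em _ * em _ = em _; rw [← hxor, h]⟩
    · exact ⟨k, by show em _ * em _ = em _; rw [← hxor, h, hxor, hO1, one_mul]⟩
  have h44 : ∀ m m', pc m = 4 → pc m' = 4 → em m = em m' → 1 ≤ (pts m ∩ pts m').card → pts m = pts m' := by
    intro m m' h4 h4' h hI
    refine Finset.image_injective e.symm.injective (M.sm_inj _ _ h ?_ (by rw [hcard, hcard, h4, h4']; decide))
    rw [← Finset.image_inter _ _ e.symm.injective, hcard, hcard, h4, h4', Finset.card_image_of_injective _ e.symm.injective]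
    omega
  have hAinj : Function.Injective A := by
    intro i j h
    by_contra hij
    obtain ⟨hp1, -⟩ := hpair i j hij
    have := h44 (tR i) (tR j) (hS i).1 (hS j).1 h (by rw [← pts_land, ← pc_eq_card, hp1]; norm_num)
    have hl := ((hS i).2 _ (hR i)).2.1
    have hl' := ((hS j).2 _ (hR j)).2.1
    exact (hdiff i j hij).1 (eq_of_pts_eq hl hl' this)
  let Y : Subgroup G :=
    { carrier := {g | g = 1 ∨ ∃ i, g = A i}
      one_mem' := Or.inl rfl
      mul_mem' := by
        rintro x y (rfl | ⟨i, rfl⟩) hy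
        · rwa [one_mul]
        rcases hy with rfl | ⟨j, rfl⟩
        · exact Or.inr ⟨i, mul_one _⟩
        rcases eq_or_ne i j with rfl | hij
        · exact Or.inl (hsq _)
        · exact Or.inr (hmul i j hij)
      inv_mem' := by
        rintro x (rfl | ⟨i, rfl⟩)
        · exact Or.inl inv_one
        · exact Or.inr ⟨i, D.inv_eq (hAA i)⟩ }
  have hAY : ∀ i, A i ∈ Y := fun i => Or.inr ⟨i, rfl⟩
  have hA1 : ∀ i, A i ≠ 1 := fun i => Z_ne_one (hAZ i)
  have hYc : Nat.card ↥Y = 8 := by
    let g : Option (Fin 7) → ↥Y := fun o => match o with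
      | none => ⟨1, Y.one_mem⟩
      | some i => ⟨A i, hAY i⟩
    have hg : Function.Bijective g := by
      constructor
      · rintro (_ | i) (_ | j) h
        · rfl
        · exact absurd (congrArg Subtype.val h).symm (hA1 j)
        · exact absurd (congrArg Subtype.val h) (hA1 i)
        · exact congrArg some (hAinj (congrArg Subtype.val h))
      · rintro ⟨x, rfl | ⟨i, rfl⟩⟩
        · exact ⟨none, rfl⟩
        · exact ⟨some i, rfl⟩
    rw [← Nat.card_congr (Equiv.ofBijective g hg), Nat.card_eq_fintype_card]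
    rfl
  -- the permutations of the complement
  let ψ : ↥K →* Equiv.Perm Cfsg.GolayPt := e.permCongrHom.toMonoidHom.comp (M.σ.comp (Subgroup.inclusion hKN))
  have hψx : ∀ (k : ↥K) x, ψ k (e x) = e (M.σ (Subgroup.inclusion hKN k) x) := fun k x => by
    show e (M.σ (Subgroup.inclusion hKN k) (e.symm (e x))) = _
    rw [e.symm_apply_apply]
  have hψinj : Function.Injective ψ := (injective_iff_map_eq_one _).mpr fun k hk => by
    have h1 : M.σ (Subgroup.inclusion hKN k) = 1 := e.permCongrHom.injective (by rw [map_one]; exact hk)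
    have h2 : (k : G) ∈ K ⊓ D.A := mem_inf.mpr ⟨k.2, M.faithful _ h1⟩
    rw [hKV, mem_bot] at h2
    exact Subtype.ext h2
  have hψim : ∀ (k : ↥K) (S : Finset Cfsg.GolayPt), Even S.card → (k : G) * es S * (k : G)⁻¹ = es (ψ k • S) := by
    intro k S hev
    refine (M.sm_conj (Subgroup.inclusion hKN k) _ (by rwa [Finset.card_image_of_injective _ e.symm.injective])).trans ?_
    refine congrArg M.sm ?_
    rw [Finset.smul_finset_def, Finset.image_image, Finset.image_image]
    refine Finset.image_congr fun p _ => ?_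
    obtain ⟨x, rfl⟩ := e.surjective p
    simp [Equiv.Perm.smul_def, hψx]
  have hψM : ∀ k, ψ k ∈ Cfsg.M24 := by
    intro k
    rw [M24_eq_octadAut, MulAction.mem_stabilizer_iff]
    have hmaps : ∀ o ∈ Cfsg.octads, ψ k • o ∈ Cfsg.octads := by
      intro o ho
      obtain ⟨q, rfl⟩ : ∃ q : Finset M.Pt, q.image e = o :=
        ⟨o.image e.symm, by rw [Finset.image_image, Equiv.self_comp_symm, Finset.image_id]⟩
      obtain ⟨h8, h0⟩ := (he q).mp ho
      have himg : ψ k • q.image e = (q.image (M.σ (Subgroup.inclusion hKN k))).image e := by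
        rw [Finset.smul_finset_def, Finset.image_image, Finset.image_image]
        exact Finset.image_congr fun x _ => hψx k x
      rw [himg, he]
      refine ⟨(Finset.card_image_of_injective _ (Equiv.injective _)).trans h8, ?_⟩
      rw [← M.sm_conj _ q (by rw [h8]; decide), h0, mul_one, mul_inv_cancel]
    refine Set.eq_of_subset_of_ncard_le (Set.smul_set_subset_iff.mpr hmaps) ?_ (Set.toFinite _)
    exact le_of_eq (Set.ncard_image_of_injective _ (MulAction.injective _)).symm
  let ψ' : ↥K →* ↥Cfsg.M24 := ψ.codRestrict Cfsg.M24 hψM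
  have hψ' : Function.Bijective ψ' := by
    refine (Nat.bijective_iff_injective_and_card _).mpr ⟨fun a b h => hψinj (congrArg Subtype.val h), ?_⟩
    obtain ⟨i⟩ := hK
    exact Nat.card_congr i.toEquiv
  obtain ⟨f0, hf0, hf0m, s₀, i₀, j₀, hij₀, hmv⟩ := exists_linear
  let F : Matrix.SpecialLinearGroup (Fin 3) (ZMod 2) →* G :=
    K.subtype.comp ((MulEquiv.ofBijective ψ' hψ').symm.toMonoidHom.comp (f0.codRestrict Cfsg.M24 fun s => (hf0m s).1))
  have hFψ : ∀ s, ∃ k : ↥K, F s = (k : G) ∧ ψ k = f0 s := fun s =>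
    ⟨_, rfl, congrArg Subtype.val ((MulEquiv.ofBijective ψ' hψ').apply_symm_apply ⟨f0 s, (hf0m s).1⟩)⟩
  have himg : ∀ s i j, f0 s • trioSext i = trioSext j → F s * A i * (F s)⁻¹ = A j := by
    intro s i j hs
    obtain ⟨k, hk, hk'⟩ := hFψ s
    have hmem : f0 s • pts (tR i) ∈ trioSext j := by
      rw [← hs]
      exact Finset.smul_mem_smul_finset (List.mem_toFinset.mpr (List.mem_map.mpr ⟨_, hR i, rfl⟩))
    obtain ⟨m, hm, hm'⟩ := List.mem_map.mp (List.mem_toFinset.mp hmem)
    rw [hk, show (k : G) * A i * (k : G)⁻¹ = es (ψ k • pts (tR i)) from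
      hψim k _ (by rw [← pc_eq_card, (hS i).1]; decide), hk', ← hm']
    exact hmember j m hm
  have hFY : ∀ s, F s ∈ normalizer (Y : Set G) := by
    intro s
    have h1 : ∀ s, ∀ y ∈ Y, F s * y * (F s)⁻¹ ∈ Y := by
      rintro s _ (rfl | ⟨i, rfl⟩)
      · simp
      · obtain ⟨j, hj⟩ := (hf0m s).2 i
        exact Or.inr ⟨j, himg s i j hj⟩
    refine mem_normalizer_iff.mpr fun y => ⟨h1 s y, fun hy => ?_⟩
    have := h1 s⁻¹ _ hy
    rw [map_inv] at this
    simpa [mul_assoc] using this
  have hFN : ∀ s, F s ∈ normalizer (D.A : Set G) := fun s => hKN ((hFψ s).choose_spec.1 ▸ ((hFψ s).choose).2)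
  refine ⟨{
    Y := Y, le := ?_, card := hYc, pure' := ?_, near := ?_
    a := A 0, b := A 1, c := A 2, mem := ⟨hAY 0, hAY 1, hAY 2⟩, ind := ?_, empty := ?_
    f := F
    f_inj := fun s t h => hf0 ?_
    f_mem := fun s => ⟨hFN s, hFY s⟩
    f_moves := ⟨s₀, A i₀, hAY i₀, ?_⟩ }⟩
  · rintro _ (rfl | ⟨i, rfl⟩)
    · exact one_mem _
    · exact hAA i
  · rintro _ (rfl | ⟨i, rfl⟩) h
    · exact absurd rfl h
    · exact (hAZ i).2
  · rintro _ (rfl | ⟨i, rfl⟩) hx1 _ hy m hm hmz
    · exact absurd rfl hx1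
    rcases hy with rfl | ⟨j, rfl⟩
    · simp
    rcases eq_or_ne i j with rfl | hij
    · rw [hmz]; exact D.mem0
    obtain ⟨-, -, h3, h4, h5⟩ := hpair i j hij
    obtain ⟨h1, h2, -⟩ := hpair i j hij
    have key : ∀ d, pc d = 2 → em d * A i ∈ D.T → m * em d * m⁻¹ ∈ D.A0 := by
      intro d hd hdT
      refine (D.mem_P_z (D.conj_T hm (sm_pair M ((hcard d).trans hd)))).mp ?_
      have hh := D.conj_T hm hdT
      rwa [show m * (em d * A i) * m⁻¹ = m * em d * m⁻¹ * (m * A i * m⁻¹) by group, hmz] at hh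
    rw [show A j = em (tR i &&& tR j) * em (tR j &&& (octT ^^^ tR i)) by rw [← hxor, h5],
      show ∀ p q : G, m * (p * q) * m⁻¹ = m * p * m⁻¹ * (m * q * m⁻¹) from fun p q => by group]
    refine mul_mem (key _ h1 ?_) (key _ h2 ?_)
    · show em _ * em _ ∈ _
      rw [← hxor]
      exact sm_pair M ((hcard _).trans h3)
    · show em _ * em _ ∈ _
      rw [show em (tR i) = em (octT ^^^ tR i) by rw [hxor, hO1, one_mul], ← hxor]
      exact sm_pair M ((hcard _).trans h4)
  · refine ⟨hA1 0, hA1 1, hA1 2, hAinj.ne (by decide), hAinj.ne (by decide), hAinj.ne (by decide), fun h => ?_⟩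
    obtain ⟨k, hk, hkk⟩ := prod01
    have e01 : A 0 * A 1 = A k := by
      show em _ * em _ = em _
      rw [← hxor]
      simp only [Fin.val_zero, Fin.val_one]
      rcases hkk with r | r
      · rw [r]
      · rw [r, hxor, hO1, one_mul]
    exact hk (hAinj (h.trans e01)).symm
  · intro t ht ha hb hc
    obtain ⟨p, q, hpq, rfl⟩ := M.surj t ht
    have hpair' : ∀ a b, a ≠ b → M.f a * M.f b = M.sm {a, b} := fun a b hab => by
      rw [M.sm_insert a _ (by simpa using hab), ← insert_empty_eq, M.sm_insert b _ (Finset.notMem_empty b), M.sm_empty,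
        mul_one]
    have hne : pidx (e p) ≠ pidx (e q) := fun h => hpq (e.injective (pidx_injective h))
    obtain ⟨i, hi⟩ := hsep _ (pidx_lt _) _ (pidx_lt _) hne
    obtain ⟨R, hRm, hRp⟩ := List.any_eq_true.mp (hcover _ (pidx_lt (e p)) i)
    have hi7 : ∀ i : Fin 3, (⟨i.val, by omega⟩ : Fin 7).val = i.val := fun _ => rfl
    set i7 : Fin 7 := ⟨i.val, by omega⟩
    have hti : M.f p * M.f q * A i7 ∈ D.T := by
      fin_cases i
      exacts [ha, hb, hc]
    obtain ⟨r, s, hrs, ers⟩ := M.surj _ hti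
    have hsum : M.sm (symmDiff ({p, q} : Finset M.Pt) {r, s}) = A i7 := by
      rw [sm_symmDiff, ← hpair' _ _ hpq, ← hpair' _ _ hrs, ← ers, D.mul_mul_cancel (mul_mem (M.mem p) (M.mem q))]
    have hdis : Disjoint ({p, q} : Finset M.Pt) {r, s} := by
      by_contra hd
      have hpos : 0 < (({p, q} : Finset M.Pt) ∩ {r, s}).card := Finset.card_pos.mpr (by
        rw [Finset.nonempty_iff_ne_empty]; exact fun h => hd (Finset.disjoint_iff_inter_eq_empty.mpr h))
      have hc2 : (symmDiff ({p, q} : Finset M.Pt) {r, s}).card ≤ 2 ∧ Even (symmDiff ({p, q} : Finset M.Pt) {r, s}).card := by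
        have h1 := Finset.card_sdiff_add_card_inter ({p, q} : Finset M.Pt) {r, s}
        have h2 := Finset.card_sdiff_add_card_inter ({r, s} : Finset M.Pt) {p, q}
        rw [Finset.inter_comm ({r, s} : Finset M.Pt)] at h2
        rw [Finset.card_pair hpq] at h1
        rw [Finset.card_pair hrs] at h2
        rw [symmDiff_def, Finset.sup_eq_union, Finset.card_union_of_disjoint disjoint_sdiff_sdiff]
        exact ⟨by omega, by rw [Nat.even_iff]; omega⟩
      rcases Nat.eq_zero_or_pos (symmDiff ({p, q} : Finset M.Pt) {r, s}).card with h0 | h0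
      · rw [Finset.card_eq_zero.mp h0, M.sm_empty] at hsum
        exact hA1 i7 hsum.symm
      · have h2 : (symmDiff ({p, q} : Finset M.Pt) {r, s}).card = 2 := by
          have := Nat.even_iff.mp hc2.2; omega
        exact Z_not_T (hAZ i7) (hsum ▸ sm_pair M h2)
    rw [hdis.symmDiff_eq_sup, Finset.sup_eq_union] at hsum
    have hcq : (({p, q} : Finset M.Pt) ∪ {r, s}).card = 4 := by
      rw [Finset.card_union_of_disjoint hdis, Finset.card_pair hpq, Finset.card_pair hrs]
    have hpm : p ∈ (pts R).image e.symm := Finset.mem_image.mpr ⟨e p, mem_pts.mpr hRp, e.symm_apply_apply p⟩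
    have heq := M.sm_inj _ _ ((show M.sm ((pts R).image e.symm) = A i7 from hmember i7 R hRm).trans hsum.symm) (by
      rw [hcard, ((hS i7).2 R hRm).1, hcq]
      have : 0 < ((pts R).image e.symm ∩ (({p, q} : Finset M.Pt) ∪ {r, s})).card :=
        Finset.card_pos.mpr ⟨p, Finset.mem_inter.mpr ⟨hpm, by simp⟩⟩
      omega) (by rw [hcard, ((hS i7).2 R hRm).1, hcq]; decide)
    have hqm : q ∈ (pts R).image e.symm := heq ▸ (by simp)
    obtain ⟨x, hx, hxq⟩ := Finset.mem_image.mp hqm
    have hxe : x = e q := by rw [← hxq, e.apply_symm_apply]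
    rcases hi R hRm with h1 | h1
    · rw [mem_pts.mp (show e p ∈ pts R from mem_pts.mpr hRp)] at h1; exact absurd h1 (by decide)
    · rw [hxe, mem_pts] at hx; rw [hx] at h1; exact absurd h1 (by decide)
  · obtain ⟨k, hk, hk'⟩ := hFψ s
    obtain ⟨l, hl, hl'⟩ := hFψ t
    rw [← hk', ← hl', Subtype.ext (hk.symm.trans (h.trans hl))]
  · rw [himg s₀ i₀ j₀ hmv]
    exact fun h => hij₀ (hAinj h).symm
where
  prod01 : ∃ k : Fin 7, k ≠ 2 ∧ (tR 0 ^^^ tR 1 = tR k ∨ tR 0 ^^^ tR 1 = octT ^^^ tR k) := by decide +kernel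

end Cfsg.Lib.JankoFour.ThreeTwelve
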